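import Groth.Agent.L08.MonoRed.Core
import Groth.Agent.L08.Borel.MaxTorusDesc
import Groth.Agent.L08.Borel.SelfCentral
import Groth.Agent.L08.Cube.AmpleDiv
import Groth.Agent.L24.ReductiveBC.Basic
import Groth.Agent.L27.NormalSepClosed.Algebra

/-!
# Reductive groups over valuation rings with algebraically closed fraction field

Such a ring is strictly henselian, so a reductive group over it has a split maximal torus; hence rational points whose
image under a monomorphism is integral are integral.
-/

set_option autoImplicit false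
set_option linter.unusedSectionVars false
set_option linter.style.haveILetI false
set_option backward.isDefEq.respectTransparency.types false
set_option maxHeartbeats 1000000
set_option linter.deprecated false

universe u

open CategoryTheory CategoryTheory.Limits MonoidalCategory CartesianMonoidalCategory MonObj GrpObj AlgebraicGeometry
open Groth.L25.SplitSub (bcDS bcHom)
open Groth.L25.LimHom (cmp isMonHom_cmp)

noncomputable section

namespace Groth.L08.MonoRed

/-- the residue field of a valuation ring with algebraically closed fraction field is algebraically closed -/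
theorem isAlgClosed_residue {V K : Type u} [CommRing V] [IsDomain V] [ValuationRing V] [Field K] [IsAlgClosed K]
    [Algebra V K] [IsFractionRing V K] : IsAlgClosed (IsLocalRing.ResidueField V) := by
  refine IsAlgClosed.of_exists_root _ fun p hp hirr => ?_
  obtain ⟨q, hq, -, hqm⟩ := Polynomial.lifts_and_degree_eq_and_monic
    ((Polynomial.lifts_iff_coeff_lifts _).2 (fun n => by exact IsLocalRing.residue_surjective (p.coeff n))) hp
  have hdeg : q.natDegree = p.natDegree := by rw [← hq, hqm.natDegree_map]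
  obtain ⟨x, hx⟩ := IsAlgClosed.exists_root (q.map (algebraMap V K)) (by
    rw [hqm.degree_map, Polynomial.degree_eq_natDegree hqm.ne_zero]
    exact_mod_cast fun h : q.natDegree = 0 => hirr.natDegree_pos.ne' (hdeg ▸ h))
  have hint : _root_.IsIntegral V x := ⟨q, hqm, by rwa [← Polynomial.eval_map]⟩
  obtain ⟨y, rfl⟩ := IsIntegrallyClosed.isIntegral_iff.1 hint
  refine ⟨IsLocalRing.residue V y, ?_⟩
  have h0 : q.eval y = 0 := IsFractionRing.injective V K (by
    rw [map_zero, ← Polynomial.eval₂_at_apply, ← Polynomial.eval_map]; exact hx)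
  rw [← hq, Polynomial.eval_map, Polynomial.eval₂_at_apply, h0, map_zero]

section Fibres

variable {S : Scheme.{u}} {G : Over S} [GrpObj G] {L : Type u} [Field L] [IsAlgClosed L]

/-- **all geometric fibres of a reductive group are reductive** -/
theorem isReductiveOver_geom (hG : Red.IsReductive G) (b : Spec (CommRingCat.of L) ⟶ S) :
    Red.IsReductiveOver L (Red.bc b G) := by
  obtain ⟨⟨s, f⟩, rfl⟩ := (Scheme.SpecToEquivOfField L S).symm.surjective b
  let κ := S.residueField s
  letI : Algebra κ L := f.hom.toAlgebra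
  let φ : AlgebraicClosure κ →ₐ[κ] L := IsAlgClosed.lift
  have hθ : Spec.map (CommRingCat.ofHom φ.toRingHom) ≫ Red.geomPt s =
      (Scheme.SpecToEquivOfField L S).symm ⟨s, f⟩ := by
    show _ ≫ Spec.map _ ≫ S.fromSpecResidueField s = Spec.map f ≫ S.fromSpecResidueField s
    rw [← Category.assoc, ← Spec.map_comp]
    congr 2
    exact CommRingCat.hom_ext (RingHom.ext fun x => φ.commutes x)
  haveI := isMonHom_cmp hθ G
  exact Groth.L14.RedLR.isReductiveOver_congr (Grp.mkIso' (cmp hθ G))
    (Groth.L24.ReductiveBC.isReductiveOver_bc (Spec.map (CommRingCat.ofHom φ.toRingHom)) (hG.2.2 s))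

/-- precomposition with an isomorphism preserves maximal tori -/
theorem isMaxTorus_iso_comp {T T' H : Over S} [GrpObj H] [GrpObj T] [GrpObj T'] (e : T' ⟶ T) [IsIso e] [IsMonHom e]
    {i : T ⟶ H} (hi : AGF.IsMaxTorus i) (hT' : Red.IsTorus T') : AGF.IsMaxTorus (e ≫ i) := by
  haveI := hi.1; haveI := hi.2.1
  exact ⟨inferInstance, mono_comp _ _, hT', fun T₁ _ j _ _ f hT₁ hf => by
    haveI : IsIso (inv e ≫ f) := hi.2.2.2 T₁ j _ hT₁ (by rw [Category.assoc, hf, IsIso.inv_hom_id_assoc])
    exact IsIso.of_isIso_comp_left (inv e) f⟩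

/-- **a split maximal torus stays maximal in every geometric fibre** -/
theorem isMaxTorus_bcHom [Smooth G.hom] [QuasiCompact G.hom] {r : ℕ} (i : Red.DS S (Fin r → ℤ) ⟶ G)
    (hi : Red.IsMaximalTorus i) (b : Spec (CommRingCat.of L) ⟶ S) : AGF.IsMaxTorus (bcHom b i) :=
  isMaxTorus_iso_comp (bcDS b).inv
    (Groth.L24.TorusField.isMaxTorus_of_isMaximalTorus_field (Groth.L08.Borel.isMaximalTorus_bc hi b))
    (Groth.L01.Unip.isTorus_DS _ r)

end Fibres

variable {V : Type u} [CommRing V] [HenselianLocalRing V] [IsAlgClosed (IsLocalRing.ResidueField V)]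
  {S : Scheme.{u}}

/-- **etale neighbourhoods of the closed point of a strictly henselian ring have sections** -/
theorem exists_etale_section {B : Scheme.{u}} (v : B ⟶ S) [Etale v] (b : Spec (CommRingCat.of V) ⟶ S)
    {p : B} (hp : v p = b (IsLocalRing.closedPoint V)) : ∃ c : Spec (CommRingCat.of V) ⟶ B, c ≫ v = b := by
  let q : pullback v b ⟶ Spec (CommRingCat.of V) := pullback.snd v b
  haveI : Smooth q := inferInstance
  obtain ⟨z, -, hz⟩ := Scheme.Pullback.exists_preimage_pullback (f := v) (g := b) p (IsLocalRing.closedPoint V) hp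
  let W := pullback q (closedMap V)
  haveI : LocallyOfFiniteType (pullback.snd q (closedMap V)) := inferInstance
  obtain ⟨w, -, -⟩ := Scheme.Pullback.exists_preimage_pullback (f := q) (g := closedMap V) z
    (IsLocalRing.closedPoint (IsLocalRing.ResidueField V)) (by
      rw [hz]
      exact (IsLocalRing.comap_closedPoint (IsLocalRing.residue V)).symm)
  haveI : JacobsonSpace W := LocallyOfFiniteType.jacobsonSpace (pullback.snd q (closedMap V))
  obtain ⟨w₀, -, hw₀⟩ := nonempty_inter_closedPoints (X := W) (Z := Set.univ) ⟨w, trivial⟩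
    isOpen_univ.isLocallyClosed
  obtain ⟨σ₀, hσ₀, -⟩ := Groth.L08.Cube.exists_section_of_isClosed (pullback.snd q (closedMap V)) w₀ hw₀
  obtain ⟨σ, hσ, -⟩ := Groth.L05.SecLift.exists_section q (σ₀ ≫ pullback.fst q (closedMap V)) (by
    rw [Category.assoc, pullback.condition, reassoc_of% hσ₀])
  exact ⟨σ ≫ pullback.fst v b, by rw [Category.assoc, pullback.condition, reassoc_of% hσ]⟩

omit [HenselianLocalRing V] [IsAlgClosed (IsLocalRing.ResidueField V)] in
/-- pulling back a split maximal torus -/
theorem exists_maxTorus_pullback {G : Over S} [GrpObj G] [Smooth G.hom] [QuasiCompact G.hom] {B : Scheme.{u}}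
    (v : B ⟶ S) {T : Over B} [GrpObj T] {iT : T ⟶ Red.bc v G} (hiT : Red.IsMaximalTorus iT) {r : ℕ}
    (e : Grp.mk T ≅ Grp.mk (Red.DS B (Fin r → ℤ))) {b : Spec (CommRingCat.of V) ⟶ S}
    {c : Spec (CommRingCat.of V) ⟶ B} (hc : c ≫ v = b) :
    ∃ i : Red.DS (Spec (CommRingCat.of V)) (Fin r → ℤ) ⟶ Red.bc b G, Red.IsMaximalTorus i := by
  haveI := hiT.1
  haveI : Smooth (Red.bc v G).hom := inferInstanceAs (Smooth (pullback.snd G.hom v))
  haveI : QuasiCompact (Red.bc v G).hom := inferInstanceAs (QuasiCompact (pullback.snd G.hom v))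
  have h1 := Groth.L08.Borel.isMaximalTorus_bc hiT c
  haveI := h1.1; haveI := h1.2.1
  let eT : Red.DS B (Fin r → ℤ) ≅ T :=
    ⟨e.inv.hom.hom, e.hom.hom.hom, congrArg (fun f => f.hom.hom) e.inv_hom_id,
      congrArg (fun f => f.hom.hom) e.hom_inv_id⟩
  haveI hm : IsMonHom eT.hom := e.inv.hom.isMonHom_hom
  haveI : IsMonHom ((Over.pullback c).map eT.hom) :=
    @Groth.L25.MonoClosed.isMonHom_pullbackMap _ _ c _ _ _ _ eT.hom hm
  let i₀ := (bcDS c).inv ≫ (Over.pullback c).map eT.hom ≫ (Over.pullback c).map iT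
  haveI := isMonHom_cmp hc G
  haveI : IsMonHom i₀ := inferInstance
  haveI : Mono i₀ := inferInstance
  refine ⟨i₀ ≫ (cmp hc G).hom, inferInstance, inferInstance, Groth.L01.Unip.isTorus_DS _ r,
    fun s T' _ j _ _ f hT' hf => ?_⟩
  let β := Red.geomPt s
  haveI : IsMonHom ((Over.pullback β).map (cmp hc G).inv) := by
    haveI := Groth.L25.LimHom.isMonHom_cmp_inv hc G
    exact Groth.L25.MonoClosed.isMonHom_pullbackMap _ _
  let m := (Over.pullback β).map ((bcDS c).inv ≫ (Over.pullback c).map eT.hom)
  haveI : IsIso ((Over.pullback c).map eT.hom) := inferInstance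
  haveI : IsIso m := inferInstance
  haveI : IsIso (inv m ≫ f) := h1.2.2.2 s T' (j ≫ (Over.pullback β).map (cmp hc G).inv) (inv m ≫ f) hT' (by
    rw [Category.assoc, ← Category.assoc f, hf, ← Functor.map_comp, IsIso.inv_comp_eq, ← Functor.map_comp]
    congr 1
    simp only [i₀, Category.assoc, Iso.hom_inv_id, Category.comp_id])
  exact IsIso.of_isIso_comp_left (inv m) f

/-- **a split maximal torus over a strictly henselian ring** -/
theorem exists_split_torus {G : Over S} [GrpObj G] (hG : Red.IsReductive G) (b : Spec (CommRingCat.of V) ⟶ S) :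
    ∃ (r : ℕ) (i : Red.DS (Spec (CommRingCat.of V)) (Fin r → ℤ) ⟶ Red.bc b G), Red.IsMaximalTorus i := by
  haveI := hG.1; haveI := hG.2.1
  let s₀ : S := b (IsLocalRing.closedPoint V)
  obtain ⟨B, _, v, hv, ⟨p, hp⟩, T, gT, iT, hiT, r, ⟨e⟩, -⟩ := Groth.L08.Borel.exists_split_maxTorus_nhd
    (Groth.L08.TorusWeights.isConnected_of_isReductive hG) s₀ fun T _ i hi X g h => by
      obtain ⟨t, ht⟩ := ((Groth.L08.TorusWeights.selfCentral_of_reductiveOver (hG.2.2 s₀)
        (Groth.L24.TorusField.isMaxTorus_of_isMaximalTorus_field hi)).2.2 X g).2 h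
      exact ⟨t, ht.symm⟩
  haveI := hv
  obtain ⟨c, hc⟩ := exists_etale_section v b (p := p) hp
  exact ⟨r, exists_maxTorus_pullback v hiT e hc⟩

/-- **a generic point of a reductive group whose image is integral is integral** -/
theorem exists_integral_point' [IsDomain V] [ValuationRing V] {K : Type u} [Field K] [IsAlgClosed K] [Algebra V K]
    [IsFractionRing V K] {G H : Over S} [GrpObj G] [GrpObj H] (hG : Red.IsReductive G)
    [LocallyOfFiniteType H.hom] [QuasiCompact H.hom] (u : G ⟶ H) [IsMonHom u] [Mono u]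
    (b : Spec (CommRingCat.of V) ⟶ S)
    (g : 𝟙_ (Over (Spec (CommRingCat.of K))) ⟶ Red.bc (baseMap V K) (Red.bc b G))
    (h : 𝟙_ (Over (Spec (CommRingCat.of V))) ⟶ Red.bc b H)
    (hgh : g ≫ (Over.pullback (baseMap V K)).map ((Over.pullback b).map u) = bcPt (baseMap V K) h) :
    ∃ γ, bcPt (baseMap V K) γ = g := by
  haveI := hG.1; haveI := hG.2.1
  obtain ⟨r, i, hi⟩ := exists_split_torus hG b
  haveI := hi.1; haveI := hi.2.1
  haveI : Smooth (Red.bc b G).hom := inferInstanceAs (Smooth (pullback.snd G.hom b))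
  haveI : IsAffineHom (Red.bc b G).hom := MorphismProperty.pullback_snd (P := @IsAffineHom) G.hom b inferInstance
  haveI : QuasiCompact (Red.bc b G).hom := inferInstance
  haveI : LocallyOfFiniteType (Red.bc b H).hom :=
    inferInstanceAs (LocallyOfFiniteType (pullback.snd H.hom b))
  haveI : QuasiCompact (Red.bc b H).hom := inferInstanceAs (QuasiCompact (pullback.snd H.hom b))
  haveI : IsMonHom ((Over.pullback b).map u) := Groth.L25.MonoClosed.isMonHom_pullbackMap _ _
  have hred : ∀ {L : Type u} [Field L] [IsAlgClosed L] (c : Spec (CommRingCat.of L) ⟶ Spec (CommRingCat.of V)),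
      Red.IsReductiveOver L (Red.bc c (Red.bc b G)) := fun c => by
    haveI := isMonHom_cmp (b := c) (a := b) rfl G
    haveI : IsMonHom (cmp (b := c) (a := b) rfl G).symm.hom :=
      Groth.L25.LimHom.isMonHom_cmp_inv (b := c) (a := b) rfl G
    exact Groth.L14.RedLR.isReductiveOver_congr (Grp.mkIso' (cmp (b := c) (a := b) rfl G).symm)
      (isReductiveOver_geom hG (c ≫ b))
  exact exists_integral_point i (hred _) (hred _) (isMaxTorus_bcHom i hi _) (isMaxTorus_bcHom i hi _)
    ((Over.pullback b).map u) g h hgh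

end Groth.L08.MonoRed
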