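import Groth.Agent.L08.MonoRed.Setup
import Groth.Agent.L25.Component

/-!
# Points of a possibly non-separated group on a strictly henselian base

A point that is trivial in the generic fibre and lies in the image of a smooth group with connected fibres in the
closed fibre is trivial: translate it into an affine open.
-/

set_option autoImplicit false
set_option linter.unusedSectionVars false
set_option linter.style.haveILetI false
set_option backward.isDefEq.respectTransparency.types false
set_option maxHeartbeats 1000000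
set_option linter.deprecated false

universe u

open CategoryTheory CategoryTheory.Limits MonoidalCategory CartesianMonoidalCategory MonObj GrpObj AlgebraicGeometry
open Groth.L25.NilAction (toBase ofBase toBase_ofBase ofBase_toBase toBase_one)
open Groth.L08.Borel (toBase_comp toBase_map' toBase_injective)

noncomputable section

namespace Groth.L08.MonoRed

/-- the scheme morphism of a rational point of a base change -/
theorem bcPt_left {S P : Scheme.{u}} (j : P ⟶ S) {G : Over S} [GrpObj G] (n : 𝟙_ (Over S) ⟶ G) :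
    (bcPt j n).left ≫ pullback.fst G.hom j = j ≫ n.left := by
  show (toBase j (bcPt j n)).left = _
  rw [toBase_bcPt, Over.comp_left,
    show (toUnit (Over.mk ((𝟙_ (Over P)).hom ≫ j))).left = j from
      (Category.comp_id _).symm.trans ((Over.w (toUnit (Over.mk ((𝟙_ (Over P)).hom ≫ j)))).trans (Category.id_comp j))]

/-- base change commutes with composition -/
theorem bcPt_comp {S P : Scheme.{u}} (j : P ⟶ S) {G H : Over S} [GrpObj G] [GrpObj H] (n : 𝟙_ (Over S) ⟶ G) (u : G ⟶ H) :
    bcPt j n ≫ (Over.pullback j).map u = bcPt j (n ≫ u) :=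
  toBase_injective j _ _ (by rw [toBase_map', toBase_bcPt, toBase_bcPt, Category.assoc])

variable {V : Type u} [CommRing V] [IsDomain V] [HenselianLocalRing V] [IsAlgClosed (IsLocalRing.ResidueField V)]
  {K : Type u} [Field K] [Algebra V K] [IsFractionRing V K]
  {G H : Over (Spec (CommRingCat.of V))} [GrpObj G] [GrpObj H] [Smooth G.hom]

theorem isDominant_baseMap : IsDominant (baseMap V K) :=
  ⟨(PrimeSpectrum.denseRange_comap_iff_ker_le_nilRadical _).2 (by
    rw [CommRingCat.hom_ofHom, (RingHom.injective_iff_ker_eq_bot _).1 (IsFractionRing.injective V K)]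
    exact bot_le)⟩

/-- **triviality from the two fibres** -/
theorem eq_one_of_fibres [ConnectedSpace ↥(Red.bc (closedMap V) G).left] (u : G ⟶ H) [IsMonHom u]
    (δ : 𝟙_ (Over (Spec (CommRingCat.of V))) ⟶ H) (hK : bcPt (baseMap V K) δ = 1)
    (x : 𝟙_ (Over (Spec (CommRingCat.of (IsLocalRing.ResidueField V)))) ⟶ Red.bc (closedMap V) G)
    (hx : x ≫ (Over.pullback (closedMap V)).map u = bcPt (closedMap V) δ) : δ = 1 := by
  let κ := closedMap V
  let k := IsLocalRing.ResidueField V
  let Gk := Red.bc κ G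
  haveI : Smooth Gk.hom := inferInstanceAs (Smooth (pullback.snd G.hom κ))
  haveI : IsLocallyNoetherian Gk.left := LocallyOfFiniteType.isLocallyNoetherian Gk.hom
  haveI : IrreducibleSpace Gk.left := Groth.L25.Component.irreducibleSpace Gk
  haveI : JacobsonSpace Gk.left := LocallyOfFiniteType.jacobsonSpace Gk.hom
  haveI : IsMonHom ((Over.pullback κ).map u) := Groth.L25.MonoClosed.isMonHom_pullbackMap _ _
  let pk : Spec (CommRingCat.of k) := IsLocalRing.closedPoint k
  have hpk : κ pk = IsLocalRing.closedPoint V := IsLocalRing.comap_closedPoint (IsLocalRing.residue V)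
  obtain ⟨_, ⟨O, hO, rfl⟩, heO, -⟩ := H.left.isBasis_affineOpens.exists_subset_of_mem_open
    (Set.mem_univ ((1 : 𝟙_ (Over (Spec (CommRingCat.of V))) ⟶ H).left (IsLocalRing.closedPoint V))) isOpen_univ
  -- the two translates of the open
  let L : (𝟙_ (Over (Spec (CommRingCat.of k))) ⟶ Gk) → (Gk.left ⟶ H.left) := fun y =>
    (((toUnit Gk ≫ y) * 𝟙 Gk) ≫ (Over.pullback κ).map u).left ≫ pullback.fst H.hom κ
  let rawO : Set H.left := SetLike.coe O
  have hL : ∀ (y t : 𝟙_ (Over (Spec (CommRingCat.of k))) ⟶ Gk),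
      L y (t.left pk) = (((y * t) ≫ (Over.pullback κ).map u).left ≫ pullback.fst H.hom κ) pk := fun y t => by
    have h1 : t ≫ ((toUnit Gk ≫ y) * 𝟙 Gk) = y * t := by
      rw [MonObj.comp_mul, Category.comp_id, ← Category.assoc,
        toUnit_unique (t ≫ toUnit Gk) (𝟙 _), Category.id_comp]
    rw [← h1, Category.assoc, Over.comp_left, Category.assoc]
    rfl
  have hbc : ∀ n : 𝟙_ (Over (Spec (CommRingCat.of V))) ⟶ H,
      ((bcPt κ n).left ≫ pullback.fst H.hom κ) pk = n.left (IsLocalRing.closedPoint V) := fun n => by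
    rw [bcPt_left, Scheme.Hom.comp_apply, hpk]
  have hbc1 : bcPt κ (1 : 𝟙_ (Over (Spec (CommRingCat.of V))) ⟶ H) = 1 :=
    toBase_injective κ _ _ (by rw [toBase_bcPt, toBase_one, MonObj.comp_one])
  have hne : ∀ y, ((1 : 𝟙_ (Over (Spec (CommRingCat.of k))) ⟶ Gk) * y)⁻¹.left pk ∈ (L y) ⁻¹' rawO := fun y => by
    show L y _ ∈ rawO
    rw [hL, _root_.one_mul, mul_inv_cancel, MonObj.one_comp, ← hbc1, hbc]
    exact heO
  obtain ⟨z, hz1, hz2⟩ := nonempty_preirreducible_inter (O.2.preimage (L 1).continuous)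
    (O.2.preimage (L x).continuous) ⟨_, hne 1⟩ ⟨_, hne x⟩
  obtain ⟨z₀, ⟨hz₀1, hz₀2⟩, hz₀⟩ := nonempty_inter_closedPoints (X := Gk.left)
    (Z := (L 1) ⁻¹' rawO ∩ (L x) ⁻¹' rawO) ⟨z, hz1, hz2⟩
    ((O.2.preimage (L 1).continuous).inter (O.2.preimage (L x).continuous)).isLocallyClosed
  obtain ⟨σ₀, hσ₀, hσ₀z⟩ := Groth.L08.Cube.exists_section_of_isClosed Gk.hom z₀ hz₀
  let t : 𝟙_ (Over (Spec (CommRingCat.of k))) ⟶ Gk := Over.homMk σ₀ hσ₀
  have htz : t.left pk = z₀ :=
    (congrArg σ₀ (Subsingleton.elim (α := PrimeSpectrum k) pk default)).trans hσ₀z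
  obtain ⟨σ, hσ, hσr⟩ := Groth.L05.SecLift.exists_section G.hom (t.left ≫ pullback.fst G.hom κ) (by
    rw [Category.assoc, pullback.condition, ← Category.assoc]
    exact (congrArg (· ≫ κ) (Over.w t)).trans (Category.id_comp _))
  let τ : 𝟙_ (Over (Spec (CommRingCat.of V))) ⟶ G := Over.homMk σ hσ
  have hτ : bcPt κ τ = t := by
    apply Over.OverMorphism.ext
    apply pullback.hom_ext
    · rw [bcPt_left]; exact hσr
    · exact (Over.w (bcPt κ τ)).trans (Over.w t).symm
  -- two integral points in an affine open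
  let a := τ ≫ u
  let a' := δ * (τ ≫ u)
  have ha : a.left (IsLocalRing.closedPoint V) ∈ rawO := by
    have h1 : L 1 (t.left pk) ∈ rawO := htz ▸ hz₀1
    rwa [hL, _root_.one_mul, ← hτ, bcPt_comp, hbc] at h1
  have ha' : a'.left (IsLocalRing.closedPoint V) ∈ rawO := by
    have h1 : L x (t.left pk) ∈ rawO := htz ▸ hz₀2
    rwa [hL, MonObj.mul_comp, hx, ← hτ, bcPt_comp, ← bcPt_mul, hbc] at h1
  have haa : baseMap V K ≫ a.left = baseMap V K ≫ a'.left := by
    rw [← bcPt_left, ← bcPt_left, show bcPt (baseMap V K) a' = bcPt (baseMap V K) a by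
      rw [bcPt_mul, hK, _root_.one_mul]]
  have hr : ∀ (m : 𝟙_ (Over (Spec (CommRingCat.of V))) ⟶ H), m.left (IsLocalRing.closedPoint V) ∈ rawO →
      Set.range m.left ⊆ Set.range hO.fromSpec := by
    rintro m hm _ ⟨p, rfl⟩
    rw [hO.range_fromSpec]
    exact ((IsLocalRing.specializes_closedPoint p).map m.left.continuous).mem_open O.2 hm
  let la := IsOpenImmersion.lift hO.fromSpec a.left (hr a ha)
  let la' := IsOpenImmersion.lift hO.fromSpec a'.left (hr a' ha')
  obtain ⟨f, hf⟩ := Spec.map_surjective la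
  obtain ⟨f', hf'⟩ := Spec.map_surjective la'
  have hff : f = f' := by
    have h1 : baseMap V K ≫ la = baseMap V K ≫ la' := by
      rw [← cancel_mono hO.fromSpec, Category.assoc, Category.assoc, IsOpenImmersion.lift_fac,
        IsOpenImmersion.lift_fac, haa]
    rw [← hf, ← hf', ← Spec.map_comp, ← Spec.map_comp] at h1
    exact CommRingCat.hom_ext (RingHom.ext fun c =>
      IsFractionRing.injective V K (congrArg (fun g => g.hom c) (Spec.map_injective h1)))
  have hfin : a' = a := by
    apply Over.OverMorphism.ext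
    rw [← IsOpenImmersion.lift_fac hO.fromSpec a'.left (hr a' ha'), ← IsOpenImmersion.lift_fac hO.fromSpec a.left (hr a ha)]
    show la' ≫ _ = la ≫ _
    rw [← hf, ← hf', hff]
  exact mul_eq_right.1 hfin

end Groth.L08.MonoRed
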