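import Groth.Agent.L08.MonoRed.FieldReg
import Groth.Agent.L25.SplitSub.KernelBC
import Groth.Agent.L08.Borel.BaseChange

/-!
# Points acting on a split torus, and base change

Conjugation by rational points normalising a split torus is recorded by maps of characters; this is compatible with
products and with base change.
-/

set_option autoImplicit false
set_option linter.unusedSectionVars false
set_option linter.style.haveILetI false
set_option backward.isDefEq.respectTransparency.types false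
set_option linter.deprecated false

universe u

open CategoryTheory CategoryTheory.Limits MonoidalCategory CartesianMonoidalCategory MonObj GrpObj AlgebraicGeometry
open Groth.L25.SplitSub (bcDS bcHom char_bcDS char_DSmap)
open Groth.L25.NilAction (toBase ofBase toBase_ofBase ofBase_toBase toBase_mul toBase_one ofBase_comp)
open Groth.L08.Borel (toBase_comp toBase_map' toBase_injective)

noncomputable section

namespace Groth.L08.MonoRed

variable {S : Scheme.{u}}

section Conj

variable {G H H' X₀ Y : Over S} [GrpObj G]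

/-- conjugation is natural in the subgroup -/
theorem comp_conj (g : 𝟙_ (Over S) ⟶ G) (f : H' ⟶ H) (h : H ⟶ G) :
    f ≫ AGF.conjBy g h = AGF.conjBy g (f ≫ h) := by
  simp only [AGF.conjBy, MonObj.comp_mul, GrpObj.comp_inv, ← Category.assoc,
    toUnit_unique (f ≫ toUnit H) (toUnit H')]

theorem conj_conj (g h : 𝟙_ (Over S) ⟶ G) (i : H ⟶ G) :
    AGF.conjBy g (AGF.conjBy h i) = AGF.conjBy (g * h) i := by
  simp only [AGF.conjBy, MonObj.comp_mul, _root_.mul_inv_rev, _root_.mul_assoc]

theorem conj_one (i : H ⟶ G) : AGF.conjBy 1 i = i := by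
  simp only [AGF.conjBy, MonObj.comp_one, inv_one, _root_.one_mul, _root_.mul_one]

/-- moving a conjugation to the other side of commutation -/
theorem commP_conj_iff (n : 𝟙_ (Over S) ⟶ G) (i : X₀ ⟶ G) (g : Y ⟶ G) :
    CommP (AGF.conjBy n i) g ↔ CommP i ((toUnit Y ≫ n)⁻¹ * g * (toUnit Y ≫ n)) := by
  refine forall_congr' fun X => forall_congr' fun x => forall_congr' fun t => ?_
  simp only [AGF.conjBy, MonObj.comp_mul, GrpObj.comp_inv, ← Category.assoc,
    toUnit_unique (x ≫ toUnit Y) (toUnit X), toUnit_unique (t ≫ toUnit X₀) (toUnit X)]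
  generalize toUnit X ≫ n = a, x ≫ g = b, t ≫ i = c
  constructor <;> intro h
  · calc a⁻¹ * b * a * c = a⁻¹ * (b * (a * c * a⁻¹)) * a := by group
      _ = a⁻¹ * (a * c * a⁻¹ * b) * a := by rw [h]
      _ = c * (a⁻¹ * b * a) := by group
  · calc b * (a * c * a⁻¹) = a * (a⁻¹ * b * a * c) * a⁻¹ := by group
      _ = a * (c * (a⁻¹ * b * a)) * a⁻¹ := by rw [h]
      _ = a * c * a⁻¹ * b := by group

/-- a rational point fixing a morphism under conjugation commutes with it -/
theorem commP_of_conj_eq {n : 𝟙_ (Over S) ⟶ G} {i : X₀ ⟶ G} (h : AGF.conjBy n i = i) : CommP i n := by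
  intro X x t
  have h1 := congrArg (t ≫ ·) h
  simp only [AGF.conjBy, MonObj.comp_mul, GrpObj.comp_inv, ← Category.assoc,
    toUnit_unique (t ≫ toUnit X₀) (toUnit X), mul_inv_eq_iff_eq_mul] at h1
  rw [toUnit_unique x (toUnit X)]
  exact h1

theorem CommP.comp_left {X₁ : Over S} {i : X₀ ⟶ G} {g : Y ⟶ G} (h : CommP i g) (e : X₁ ⟶ X₀) :
    CommP (e ≫ i) g := fun X x t => by simpa only [Category.assoc] using h X x (t ≫ e)

theorem CommP.comp_right {Y' : Over S} {i : X₀ ⟶ G} {g : Y ⟶ G} (h : CommP i g) (e : Y' ⟶ Y) :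
    CommP i (e ≫ g) := fun X x t => by simpa only [Category.assoc] using h X (x ≫ e) t

end Conj

section DSmaps

variable {L M N : Type} [AddCommGroup L] [AddCommGroup M] [AddCommGroup N]

theorem DSmap_comp (p : L →+ M) (q : M →+ N) :
    Red.DSmap S q ≫ Red.DSmap S p = Red.DSmap S (q.comp p) := by
  rw [← Category.id_comp (Red.DSmap S q ≫ Red.DSmap S p), ← Category.id_comp (Red.DSmap S (q.comp p))]
  refine Groth.L25.DSPts.char_injective ?_
  rw [← Category.assoc, char_DSmap, char_DSmap, char_DSmap]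
  rfl

theorem DSmap_id : Red.DSmap S (AddMonoidHom.id M) = 𝟙 _ := by
  rw [← Category.id_comp (Red.DSmap S (AddMonoidHom.id M))]
  refine Groth.L25.DSPts.char_injective ?_
  rw [char_DSmap]
  rfl

/-- the diagonalisable group is commutative -/
theorem DS_comm {T : Over S} (a b : T ⟶ Red.DS S M) : a * b = b * a :=
  Groth.L25.DSPts.char_injective (by
    rw [Groth.L25.DSPts.char_mul, Groth.L25.DSPts.char_mul, _root_.mul_comm])

theorem commP_self {G : Over S} [GrpObj G] (i : Red.DS S M ⟶ G) [IsMonHom i] : CommP i i := fun X x t => by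
  rw [← MonObj.mul_comp, ← MonObj.mul_comp, DS_comm]

theorem one_comp_map {r : ℕ} (f : (Fin r → ℤ) →+ ℤ) (θ : (Fin r → ℤ) →+ (Fin r → ℤ)) :
    (one f).comp θ = one (f.comp θ) := rfl

end DSmaps

section Acts

variable {G : Over S} [GrpObj G] {r : ℕ} {i : Red.DS S (Fin r → ℤ) ⟶ G}

theorem actsDS_one : ActsDS i 1 (AddMonoidHom.id _) := by
  rw [ActsDS, conj_one, DSmap_id, Category.id_comp]

theorem ActsDS.mul {n n' : 𝟙_ (Over S) ⟶ G} {θ θ' : (Fin r → ℤ) →+ (Fin r → ℤ)} (h : ActsDS i n θ)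
    (h' : ActsDS i n' θ') : ActsDS i (n * n') (θ'.comp θ) := by
  rw [ActsDS] at h h' ⊢
  rw [← conj_conj, h', ← comp_conj, h, ← Category.assoc, DSmap_comp]

/-- regularity is invariant under points acting on the torus -/
theorem Reg.comp_acts {f : (Fin r → ℤ) →+ ℤ} (hf : Reg i f) {n : 𝟙_ (Over S) ⟶ G}
    {θ θ' : (Fin r → ℤ) →+ (Fin r → ℤ)} (h : ActsDS i n θ) (h1 : θ'.comp θ = AddMonoidHom.id _)
    (h2 : θ.comp θ' = AddMonoidHom.id _) : Reg i (f.comp θ) := by
  intro Y g hg
  haveI : IsIso (Red.DSmap S θ) :=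
    ⟨Red.DSmap S θ', by rw [DSmap_comp, h2, DSmap_id], by rw [DSmap_comp, h1, DSmap_id]⟩
  rw [← one_comp_map, ← DSmap_comp, Category.assoc, ← h, comp_conj, commP_conj_iff] at hg
  have h3 := (commP_conj_iff n i g).2 (hf _ _ hg)
  rw [h] at h3
  exact (commP_comp_iff (Red.DSmap S θ) i g).1 h3

end Acts

section BC

variable {P : Scheme.{u}} (j : P ⟶ S) {G : Over S} [GrpObj G]

/-- a rational point after base change -/
def bcPt (n : 𝟙_ (Over S) ⟶ G) : 𝟙_ (Over P) ⟶ Red.bc j G := ofBase j (toUnit _ ≫ n)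

theorem toBase_bcPt (n : 𝟙_ (Over S) ⟶ G) : toBase j (bcPt j n) = toUnit _ ≫ n := toBase_ofBase j _

theorem bcPt_mul (n m : 𝟙_ (Over S) ⟶ G) : bcPt j (n * m) = bcPt j n * bcPt j m :=
  toBase_injective j _ _ (by rw [toBase_bcPt, toBase_mul, toBase_bcPt, toBase_bcPt, MonObj.comp_mul])

theorem bcPt_inv (n : 𝟙_ (Over S) ⟶ G) : bcPt j n⁻¹ = (bcPt j n)⁻¹ := by
  refine eq_inv_of_mul_eq_one_left ?_
  rw [← bcPt_mul, inv_mul_cancel]
  exact toBase_injective j _ _ (by rw [toBase_bcPt, toBase_one, MonObj.comp_one])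

theorem map_toUnit_comp {H : Over S} (n : 𝟙_ (Over S) ⟶ G) :
    (Over.pullback j).map (toUnit H ≫ n) = toUnit _ ≫ bcPt j n := by
  refine toBase_injective j _ _ ?_
  rw [← Category.id_comp ((Over.pullback j).map (toUnit H ≫ n)), toBase_map', toBase_comp, toBase_bcPt,
    ← Category.assoc, ← Category.assoc]
  exact congrArg (· ≫ n) (toUnit_unique _ _)

theorem map_conj {H : Over S} (n : 𝟙_ (Over S) ⟶ G) (i : H ⟶ G) :
    (Over.pullback j).map (AGF.conjBy n i) = AGF.conjBy (bcPt j n) ((Over.pullback j).map i) := by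
  have hm : ∀ a b : H ⟶ G,
      (Over.pullback j).map (a * b) = (Over.pullback j).map a * (Over.pullback j).map b := fun a b =>
    map_mul ((Over.pullback j).homMonoidHom) a b
  have hi : ∀ a : H ⟶ G, (Over.pullback j).map a⁻¹ = ((Over.pullback j).map a)⁻¹ := fun a =>
    map_inv ((Over.pullback j).homMonoidHom) a
  simp only [AGF.conjBy, hm, hi, map_toUnit_comp]

variable {M M' : Type} [AddCommGroup M] [AddCommGroup M']

theorem bcDSmap (p : M →+ M') :
    (Over.pullback j).map (Red.DSmap S p) ≫ (bcDS j).hom = (bcDS j).hom ≫ Red.DSmap P p := by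
  rw [← Category.id_comp ((Over.pullback j).map (Red.DSmap S p) ≫ (bcDS j).hom),
    ← Category.id_comp ((bcDS j).hom ≫ Red.DSmap P p)]
  refine Groth.L25.DSPts.char_injective ?_
  rw [← Category.assoc, char_bcDS, toBase_map', char_DSmap, ← Category.assoc, char_DSmap, char_bcDS]

theorem bcHom_comp {H : Over S} (p : M →+ M') (u : Red.DS S M ⟶ H) :
    bcHom j (Red.DSmap S p ≫ u) = Red.DSmap P p ≫ bcHom j u := by
  have h : (bcDS j).inv ≫ (Over.pullback j).map (Red.DSmap S p) = Red.DSmap P p ≫ (bcDS j).inv := by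
    rw [Iso.inv_comp_eq, ← Category.assoc, Iso.eq_comp_inv, bcDSmap]
  rw [bcHom, bcHom, Functor.map_comp, ← Category.assoc, h, Category.assoc]

theorem ActsDS.bc {r : ℕ} {i : Red.DS S (Fin r → ℤ) ⟶ G} {n : 𝟙_ (Over S) ⟶ G}
    {θ : (Fin r → ℤ) →+ (Fin r → ℤ)} (h : ActsDS i n θ) : ActsDS (bcHom j i) (bcPt j n) θ := by
  rw [ActsDS] at h ⊢
  rw [← bcHom_comp, ← h, bcHom, bcHom, ← comp_conj, map_conj]

end BC

end Groth.L08.MonoRed
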