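import Groth.Agent.L25.Dyn.TorusCentralizer
import Mathlib.RingTheory.Binomial
import Mathlib.Algebra.MonoidAlgebra.Basic

/-!
# Integrality of Laurent polynomials from their jets at the identity

The functionals `f ↦ ∑ c_m · binom(λ m - a, n)` kill high powers of the augmentation ideal and preserve every additive
subgroup of coefficients; together they determine the coefficients.
-/

set_option autoImplicit false

universe u

noncomputable section

namespace Groth.L08.MonoRed

open MonoidAlgebra

variable {R : Type u} [CommRing R] {M : Type} [AddCommGroup M]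

/-- the functional of a linear form, a shift and a degree -/
def jet (lam : M →+ ℤ) (a : ℤ) (n : ℕ) : MonoidAlgebra R (Multiplicative M) →ₗ[R] R :=
  (Finsupp.linearCombination R fun m : Multiplicative M => ((Ring.choose (lam m.toAdd - a) n : ℤ) : R)) ∘ₗ
    (MonoidAlgebra.coeffLinearEquiv R).toLinearMap

theorem jet_single (lam : M →+ ℤ) (a : ℤ) (n : ℕ) (m : Multiplicative M) (c : R) :
    jet lam a n (single m c) = c * ((Ring.choose (lam m.toAdd - a) n : ℤ) : R) := by
  show Finsupp.linearCombination R _ ((single m c).coeff) = _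
  rw [MonoidAlgebra.coeff_single, Finsupp.linearCombination_single, smul_eq_mul]

/-- Vandermonde: multiplication by a monomial -/
theorem jet_mul_single (lam : M →+ ℤ) (a : ℤ) (n : ℕ) (m : Multiplicative M) (g : MonoidAlgebra R (Multiplicative M)) :
    jet lam a n (g * single m 1) =
      ∑ ij ∈ Finset.antidiagonal n, ((Ring.choose (lam m.toAdd) ij.1 : ℤ) : R) * jet lam a ij.2 g := by
  induction g using MonoidAlgebra.induction_linear with
  | zero => simp
  | add p q hp hq => simp only [add_mul, map_add, hp, hq, mul_add, Finset.sum_add_distrib]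
  | single p c =>
    rw [single_mul_single, mul_one, jet_single]
    have h : lam (p * m).toAdd - a = lam m.toAdd + (lam p.toAdd - a) := by
      rw [toAdd_mul, map_add]; ring
    rw [h, Ring.add_choose_eq n (Commute.all _ _), Int.cast_sum, Finset.mul_sum]
    refine Finset.sum_congr rfl fun ij _ => ?_
    rw [jet_single, Int.cast_mul]
    ring

/-- the functionals of degree `< N` kill the `N`-th power of the augmentation ideal -/
theorem jet_eq_zero (lam : M →+ ℤ) (a : ℤ) {N : ℕ} {f : MonoidAlgebra R (Multiplicative M)}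
    (hf : f ∈ Ideal.span (Set.range fun m : Multiplicative M => single m (1 : R) - 1) ^ N) :
    ∀ n < N, jet lam a n f = 0 := by
  classical
  induction N generalizing f with
  | zero => intro n hn; exact absurd hn (Nat.not_lt_zero n)
  | succ N ih =>
    intro n hn
    rw [pow_succ] at hf
    refine Submodule.mul_induction_on hf (fun x hx y hy => ?_) fun x y hx hy => by rw [map_add, hx, hy, add_zero]
    induction hy using Submodule.span_induction generalizing x with
    | mem y hy =>
      obtain ⟨m, rfl⟩ := hy
      rw [mul_sub, mul_one, map_sub, jet_mul_single, sub_eq_zero]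
      rw [Finset.sum_eq_single (0, n)]
      · simp
      · rintro ⟨i, j⟩ hij hne
        rw [Finset.mem_antidiagonal] at hij
        have hj : j < N := by
          rcases Nat.eq_zero_or_pos i with rfl | hi
          · exact absurd (show ((0, j) : ℕ × ℕ) = (0, n) by rw [show j = n by simp only at hij; omega]) hne
          · simp only at hij; omega
        rw [ih hx j hj, mul_zero]
      · intro h; simp at h
    | zero => rw [mul_zero, map_zero]
    | add y z _ _ hy hz => rw [mul_add, map_add, hy x hx, hz x hx, add_zero]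
    | smul r y _ hy =>
      rw [smul_eq_mul, ← mul_assoc]
      exact hy (x * r) (Ideal.mul_mem_right _ _ hx)

/-- the augmentation -/
abbrev augm (R : Type u) [CommRing R] (M : Type) [AddCommGroup M] : MonoidAlgebra R (Multiplicative M) →ₐ[R] R :=
  MonoidAlgebra.lift R R (Multiplicative M) 1

theorem mem_span_of_augm {f : MonoidAlgebra R (Multiplicative M)} (hf : augm R M f = 0) :
    f ∈ Ideal.span (Set.range fun m : Multiplicative M => single m (1 : R) - 1) := by
  have key : ∀ g : MonoidAlgebra R (Multiplicative M),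
      g - algebraMap R _ (augm R M g) ∈ Ideal.span (Set.range fun m : Multiplicative M => single m (1 : R) - 1) := by
    intro g
    induction g using MonoidAlgebra.induction_linear with
    | zero => simp
    | add p q hp hq => rw [map_add, map_add, add_sub_add_comm]; exact Ideal.add_mem _ hp hq
    | single m c =>
      have e : single m c - algebraMap R (MonoidAlgebra R (Multiplicative M)) (augm R M (single m c)) =
          algebraMap R (MonoidAlgebra R (Multiplicative M)) c * (single m 1 - 1) := by
        rw [augm, MonoidAlgebra.lift_single]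
        simp [mul_sub, MonoidAlgebra.single_mul_single]
      rw [e]
      exact Ideal.mul_mem_left _ _ (Ideal.subset_span ⟨m, rfl⟩)
  have h := key f
  rwa [hf, map_zero, sub_zero] at h

/-- the jets detect integrality of the coefficients -/
theorem coeff_mem_of_jets {r : ℕ} (W : AddSubgroup R) (f : MonoidAlgebra R (Multiplicative (Fin r → ℤ)))
    (hf : ∀ (lam : (Fin r → ℤ) →+ ℤ) (a : ℤ) (n : ℕ), jet lam a n f ∈ W) : ∀ m, f.coeff m ∈ W := by
  classical
  let F : Finset (Fin r → ℤ) := f.coeff.support.map Multiplicative.toAdd.toEmbedding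
  obtain ⟨lam, hlam⟩ := Groth.L25.Dyn.exists_generic ((F ×ˢ F).image fun p => p.1 - p.2)
  have hinj : ∀ m ∈ f.coeff.support, ∀ m' ∈ f.coeff.support, lam m.toAdd = lam m'.toAdd → m = m' := by
    intro m hm m' hm' h
    by_contra hne
    refine hlam (m.toAdd - m'.toAdd) (Finset.mem_image.2 ⟨(m.toAdd, m'.toAdd), Finset.mem_product.2
      ⟨Finset.mem_map.2 ⟨m, hm, rfl⟩, Finset.mem_map.2 ⟨m', hm', rfl⟩⟩, rfl⟩) (sub_ne_zero.2 fun e => hne ?_) ?_
    · exact Multiplicative.toAdd.injective e
    · rw [map_sub, h, sub_self]
  by_contra hcon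
  push Not at hcon
  obtain ⟨m₁, hm₁⟩ := hcon
  let S := f.coeff.support.filter fun m => f.coeff m ∉ W
  have hm₁S : m₁ ∈ S := Finset.mem_filter.2 ⟨Finsupp.mem_support_iff.2 fun h => hm₁ (h ▸ W.zero_mem), hm₁⟩
  obtain ⟨m₀, hm₀, hmax⟩ := Finset.exists_max_image S (fun m => lam m.toAdd) ⟨m₁, hm₁S⟩
  obtain ⟨hm₀s, hm₀W⟩ := Finset.mem_filter.1 hm₀
  obtain ⟨mmin, -, hmin⟩ := Finset.exists_min_image f.coeff.support (fun m => lam m.toAdd) ⟨m₀, hm₀s⟩
  let a := lam mmin.toAdd
  let n := (lam m₀.toAdd - a).toNat
  have hn : (n : ℤ) = lam m₀.toAdd - a := Int.toNat_of_nonneg (sub_nonneg.2 (hmin m₀ hm₀s))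
  have hL := hf lam a n
  have e : jet lam a n f = ∑ m ∈ f.coeff.support, f.coeff m * ((Ring.choose (lam m.toAdd - a) n : ℤ) : R) := by
    conv_lhs => rw [← MonoidAlgebra.sum_coeff_single f]
    rw [map_finsuppSum]
    exact Finset.sum_congr rfl fun m _ => jet_single lam a n m _
  rw [e, ← Finset.add_sum_erase _ _ hm₀s, ← hn, Ring.choose_natCast, Nat.choose_self, Nat.cast_one, Int.cast_one,
    mul_one] at hL
  refine hm₀W ((W.add_mem_cancel_right (W.sum_mem fun m hm => ?_)).1 hL)
  obtain ⟨hne, hms⟩ := Finset.mem_erase.1 hm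
  obtain ⟨j, hj⟩ := Int.eq_ofNat_of_zero_le (sub_nonneg.2 (hmin m hms))
  change f.coeff m * ((Ring.choose (lam m.toAdd - a) n : ℤ) : R) ∈ W
  rcases lt_trichotomy j n with h | h | h
  · rw [show lam m.toAdd - a = (j : ℤ) from hj, Ring.choose_natCast, Nat.choose_eq_zero_of_lt h, Nat.cast_zero,
      Int.cast_zero, mul_zero]
    exact W.zero_mem
  · refine absurd (hinj m hms m₀ hm₀s ?_) hne
    have : lam m.toAdd - a = lam m₀.toAdd - a := by rw [← hn, show lam m.toAdd - a = (j : ℤ) from hj, h]
    linarith
  · have hmW : f.coeff m ∈ W := by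
      by_contra hc
      have := hmax m (Finset.mem_filter.2 ⟨hms, hc⟩)
      have hj' : lam m.toAdd - a = (j : ℤ) := hj
      omega
    rw [mul_comm, ← zsmul_eq_mul]
    exact W.zsmul_mem hmW _

/-- a Laurent polynomial congruent to integral ones modulo every power of the augmentation ideal is integral -/
theorem exists_map_eq {V : Type u} [CommRing V] (ρ : V →+* R) {r : ℕ}
    (f : MonoidAlgebra R (Multiplicative (Fin r → ℤ)))
    (hf : ∀ N : ℕ, ∃ q : MonoidAlgebra V (Multiplicative (Fin r → ℤ)),
      f - MonoidAlgebra.mapRingHom _ ρ q ∈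
        Ideal.span (Set.range fun m : Multiplicative (Fin r → ℤ) => single m (1 : R) - 1) ^ N) :
    ∃ q : MonoidAlgebra V (Multiplicative (Fin r → ℤ)), MonoidAlgebra.mapRingHom _ ρ q = f := by
  classical
  have h := coeff_mem_of_jets ρ.range.toAddSubgroup f fun lam a n => by
    obtain ⟨q, hq⟩ := hf (n + 1)
    have h0 := jet_eq_zero lam a hq n n.lt_succ_self
    rw [map_sub, sub_eq_zero] at h0
    rw [h0]
    clear hq h0
    induction q using MonoidAlgebra.induction_linear with
    | zero => simp
    | add p q hp hq => rw [map_add, map_add]; exact AddSubgroup.add_mem _ hp hq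
    | single m c =>
      rw [MonoidAlgebra.mapRingHom_single, jet_single]
      exact ⟨c * (Ring.choose (lam m.toAdd - a) n : ℤ), by rw [map_mul, map_intCast]⟩
  choose c hc using fun m => h m
  refine ⟨∑ m ∈ f.coeff.support, single m (c m), ?_⟩
  rw [map_sum]
  conv_rhs => rw [← MonoidAlgebra.sum_coeff_single f]
  exact Finset.sum_congr rfl fun m _ => by rw [MonoidAlgebra.mapRingHom_single, hc]

end Groth.L08.MonoRed
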