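import Mathlib.AlgebraicGeometry.AffineScheme
import Mathlib.AlgebraicGeometry.Morphisms.FinitePresentation
import Mathlib.FieldTheory.IsAlgClosed.AlgebraicClosure
import Mathlib.RingTheory.Flat.FaithfullyFlat.Algebra
import Mathlib.RingTheory.Flat.TorsionFree
import Mathlib.RingTheory.Localization.AtPrime.Basic
import Mathlib.RingTheory.Valuation.LocalSubring
import Mathlib.RingTheory.Spectrum.Prime.ConstructibleSet

/-!
# Valuation rings hitting chains of specializations

Two successive specializations on a scheme are realised by one valuation ring with algebraically closed fraction field;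
points in the closure of a constructible subset of a closed set are specializations.
-/

set_option autoImplicit false
set_option linter.unusedSectionVars false
set_option linter.style.haveILetI false
set_option linter.deprecated false
set_option backward.isDefEq.respectTransparency.types false

universe u

open CategoryTheory AlgebraicGeometry IsLocalRing Topology

noncomputable section

namespace Groth.L08.MonoRed

/-- a valuation ring centred at a prime containing the kernel -/
theorem exists_dominating {R F : Type u} [CommRing R] [Field F] (ψ : R →+* F) (p : Ideal R) [p.IsPrime]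
    (h : RingHom.ker ψ ≤ p) : ∃ (V : ValuationSubring F) (φ : R →+* V),
      (∀ r, (φ r : F) = ψ r) ∧ (maximalIdeal V).comap φ = p := by
  have hu : ∀ y : p.primeCompl, IsUnit (ψ y) := fun y => (isUnit_iff_ne_zero).2 fun h0 => y.2 (h h0)
  obtain ⟨V, hV, hloc⟩ := IsLocalRing.exists_factor_valuationRing
    (IsLocalization.lift (S := Localization.AtPrime p) hu)
  let L : Localization.AtPrime p →+* V := (IsLocalization.lift (S := Localization.AtPrime p) hu).codRestrict V.toSubring hV
  haveI : IsLocalHom L := hloc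
  refine ⟨V, L.comp (algebraMap R _), fun r => IsLocalization.lift_eq hu r, ?_⟩
  rw [← Ideal.comap_comap, IsLocalRing.maximalIdeal_comap L]
  exact IsLocalization.AtPrime.comap_maximalIdeal _ p

/-- the residue field of a valuation subring of an algebraically closed field is algebraically closed -/
theorem isAlgClosed_residue' {F : Type u} [Field F] [IsAlgClosed F] (V : ValuationSubring F) :
    IsAlgClosed (ResidueField V) := by
  refine IsAlgClosed.of_exists_root _ fun p hp hirr => ?_
  obtain ⟨q, hq, -, hqm⟩ := Polynomial.lifts_and_degree_eq_and_monic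
    ((Polynomial.lifts_iff_coeff_lifts _).2 (fun n => IsLocalRing.residue_surjective (p.coeff n))) hp
  have hdeg : q.natDegree = p.natDegree := by rw [← hq, hqm.natDegree_map]
  obtain ⟨x, hx⟩ := IsAlgClosed.exists_root (q.map (algebraMap V F)) (by
    rw [hqm.degree_map, Polynomial.degree_eq_natDegree hqm.ne_zero]
    exact_mod_cast fun h : q.natDegree = 0 => hirr.natDegree_pos.ne' (hdeg ▸ h))
  have hint : _root_.IsIntegral V x := ⟨q, hqm, by rwa [← Polynomial.eval_map]⟩
  obtain ⟨y, rfl⟩ := IsIntegrallyClosed.isIntegral_iff.1 hint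
  refine ⟨residue V y, ?_⟩
  have h0 : q.eval y = 0 := IsFractionRing.injective V F (by
    rw [map_zero, ← Polynomial.eval₂_at_apply, ← Polynomial.eval_map]; exact hx)
  rw [← hq, Polynomial.eval_map, Polynomial.eval₂_at_apply, h0, map_zero]

/-- **one valuation ring through a chain of primes** -/
theorem exists_chain_ring {R : Type u} [CommRing R] (p₀ p₁ p₂ : PrimeSpectrum R) (h₀ : p₀ ⤳ p₁) (h₁ : p₁ ⤳ p₂) :
    ∃ (Ω : Type u) (_ : Field Ω) (_ : IsAlgClosed Ω) (V : ValuationSubring Ω) (φ : R →+* V) (P : PrimeSpectrum V),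
      RingHom.ker φ = p₀.asIdeal ∧ PrimeSpectrum.comap φ P = p₁ ∧
        PrimeSpectrum.comap φ (closedPoint V) = p₂ := by
  rw [← PrimeSpectrum.le_iff_specializes] at h₀ h₁
  let F₀ := FractionRing (R ⧸ p₀.asIdeal)
  let Ω := AlgebraicClosure F₀
  let ψ₁ : R →+* Ω := ((algebraMap F₀ Ω).comp (algebraMap (R ⧸ p₀.asIdeal) F₀)).comp (Ideal.Quotient.mk _)
  have hker : RingHom.ker ψ₁ = p₀.asIdeal := by
    have hinj : Function.Injective ((algebraMap F₀ Ω).comp (algebraMap (R ⧸ p₀.asIdeal) F₀)) :=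
      (algebraMap F₀ Ω).injective.comp (IsFractionRing.injective (R ⧸ p₀.asIdeal) F₀)
    rw [RingHom.ker_comp_of_injective _ hinj, Ideal.mk_ker]
  obtain ⟨V₁, φ₁, hφ₁, hc₁⟩ := exists_dominating ψ₁ p₁.asIdeal (hker.le.trans h₀)
  haveI := isAlgClosed_residue' V₁
  let ψ₂ : R →+* ResidueField V₁ := (residue V₁).comp φ₁
  have hker₂ : RingHom.ker ψ₂ = p₁.asIdeal := by
    rw [← RingHom.comap_ker, IsLocalRing.ker_residue, hc₁]
  obtain ⟨V₂, φ₂, hφ₂, hc₂⟩ := exists_dominating ψ₂ p₂.asIdeal (hker₂.le.trans h₁)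
  -- the composite valuation ring
  let V : ValuationSubring Ω :=
    { (V₂.toSubring.comap (residue V₁)).map V₁.subtype with
      mem_or_inv_mem' := fun x => by
        rcases V₁.mem_or_inv_mem x with hx | hx
        · rcases V₂.mem_or_inv_mem (residue V₁ ⟨x, hx⟩) with h | h
          · exact Or.inl ⟨⟨x, hx⟩, h, rfl⟩
          · by_cases hu : IsUnit (⟨x, hx⟩ : V₁)
            · obtain ⟨y, hy⟩ := hu.exists_right_inv
              have hy' : (y : Ω) = x⁻¹ := eq_inv_of_mul_eq_one_right (congrArg Subtype.val hy)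
              refine Or.inr ⟨y, ?_, hy'⟩
              show residue V₁ y ∈ V₂
              have : residue V₁ y = (residue V₁ ⟨x, hx⟩)⁻¹ := eq_inv_of_mul_eq_one_right (by
                rw [← map_mul, hy, map_one])
              rw [this]; exact h
            · refine Or.inl ⟨⟨x, hx⟩, ?_, rfl⟩
              show residue V₁ ⟨x, hx⟩ ∈ V₂
              rw [(IsLocalRing.residue_eq_zero_iff _).2 ((mem_maximalIdeal _).2 hu)]
              exact V₂.zero_mem
        · by_cases hu : IsUnit (⟨x⁻¹, hx⟩ : V₁)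
          · obtain ⟨y, hy⟩ := hu.exists_right_inv
            have hy' : (y : Ω) = x := by
              have := eq_inv_of_mul_eq_one_right (congrArg Subtype.val hy)
              rwa [inv_inv] at this
            rcases V₂.mem_or_inv_mem (residue V₁ y) with h | h
            · exact Or.inl ⟨y, h, hy'⟩
            · refine Or.inr ⟨⟨x⁻¹, hx⟩, ?_, rfl⟩
              show residue V₁ ⟨x⁻¹, hx⟩ ∈ V₂
              have : residue V₁ ⟨x⁻¹, hx⟩ = (residue V₁ y)⁻¹ := eq_inv_of_mul_eq_one_left (by
                rw [← map_mul, hy, map_one])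
              rw [this]; exact h
          · refine Or.inr ⟨⟨x⁻¹, hx⟩, ?_, rfl⟩
            show residue V₁ ⟨x⁻¹, hx⟩ ∈ V₂
            rw [(IsLocalRing.residue_eq_zero_iff _).2 ((mem_maximalIdeal _).2 hu)]
            exact V₂.zero_mem }
  have hle : ∀ x : Ω, x ∈ V → x ∈ V₁ := fun x ⟨a, _, ha⟩ => ha ▸ a.2
  have hres : ∀ (x : V), residue V₁ ⟨x.1, hle _ x.2⟩ ∈ V₂ := fun x => by
    obtain ⟨a, ha, hax⟩ := x.2
    have : a = ⟨x.1, hle _ x.2⟩ := Subtype.ext hax
    exact this ▸ ha
  let ι : V →+* V₁ := V.subtype.codRestrict V₁.toSubring fun x => hle _ x.2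
  let π : V →+* V₂ := ((residue V₁).comp ι).codRestrict V₂.toSubring hres
  let φ : R →+* V := ψ₁.codRestrict V.toSubring fun r => ⟨φ₁ r, by
    show residue V₁ (φ₁ r) ∈ V₂
    rw [show residue V₁ (φ₁ r) = (φ₂ r : ResidueField V₁) from (hφ₂ r).symm]
    exact (φ₂ r).2, hφ₁ r⟩
  have hι : ι.comp φ = φ₁ := RingHom.ext fun r => Subtype.ext (hφ₁ r).symm
  have hπ : π.comp φ = φ₂ := RingHom.ext fun r => Subtype.ext (by
    rw [hφ₂]
    show residue V₁ (ι.comp φ r) = _
    rw [hι]; rfl)
  have hπm : (maximalIdeal V₂).comap π = maximalIdeal V := by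
    refine (IsLocalRing.eq_maximalIdeal ?_)
    refine Ideal.isMaximal_iff.2 ⟨fun h => (maximalIdeal.isMaximal V₂).ne_top
      ((Ideal.eq_top_iff_one _).2 (map_one π ▸ h)), fun J x hJ hx hxJ => ?_⟩
    have hxu : IsUnit (π x) := by
      by_contra h
      exact hx ((mem_maximalIdeal _).2 h)
    obtain ⟨z, hz⟩ := hxu.exists_right_inv
    have hxι : IsUnit (ι x) := by
      by_contra h
      have : (π x : ResidueField V₁) = 0 := (IsLocalRing.residue_eq_zero_iff _).2 ((mem_maximalIdeal _).2 h)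
      exact hxu.ne_zero (Subtype.ext this)
    obtain ⟨y, hy⟩ := hxι.exists_right_inv
    have hyV : (y : Ω) ∈ V := ⟨y, by
      show residue V₁ y ∈ V₂
      have : residue V₁ y = (z : ResidueField V₁) := by
        have h1 : residue V₁ (ι x) * residue V₁ y = 1 := by rw [← map_mul, hy, map_one]
        have h2 : residue V₁ (ι x) * (z : ResidueField V₁) = 1 := congrArg Subtype.val hz
        exact mul_left_cancel₀ (left_ne_zero_of_mul_eq_one h1) (h1.trans h2.symm)
      rw [this]; exact z.2, rfl⟩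
    have : x * ⟨y, hyV⟩ = 1 := Subtype.ext (show (x : Ω) * (y : Ω) = 1 from congrArg (fun t : V₁ => (t : Ω)) hy)
    rw [← this]
    exact J.mul_mem_right _ hxJ
  refine ⟨Ω, inferInstance, inferInstance, V, φ, ⟨(maximalIdeal V₁).comap ι, inferInstance⟩, ?_,
    PrimeSpectrum.ext ?_, PrimeSpectrum.ext ?_⟩
  · refine Eq.trans ?_ hker
    ext x
    simp only [RingHom.mem_ker]
    show φ x = 0 ↔ ψ₁ x = 0
    rw [← Subtype.val_injective.eq_iff (a := φ x) (b := 0)]
    rfl
  · show ((maximalIdeal V₁).comap ι).comap φ = _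
    rw [Ideal.comap_comap, hι, hc₁]
  · show (maximalIdeal V).comap φ = _
    rw [← hπm, Ideal.comap_comap, hπ, hc₂]

/-- **a chain of specializations is seen by one valuation ring** -/
theorem exists_chain {X : Scheme.{u}} {x₀ x₁ x₂ : X} (h₀ : x₀ ⤳ x₁) (h₁ : x₁ ⤳ x₂) :
    ∃ (Ω : Type u) (_ : Field Ω) (_ : IsAlgClosed Ω) (V : ValuationSubring Ω)
      (c : Spec (CommRingCat.of V) ⟶ X), c (PrimeSpectrum.comap (algebraMap V Ω) (closedPoint Ω)) = x₀ ∧
        x₁ ∈ Set.range c ∧ c (closedPoint V) = x₂ := by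
  obtain ⟨_, ⟨W, hW, rfl⟩, hW₂, -⟩ :=
    X.isBasis_affineOpens.exists_subset_of_mem_open (Set.mem_univ x₂) isOpen_univ
  obtain ⟨p₂, rfl⟩ := hW.range_fromSpec.ge hW₂
  obtain ⟨p₁, rfl⟩ := hW.range_fromSpec.ge (h₁.mem_open W.2 hW₂)
  obtain ⟨p₀, rfl⟩ := hW.range_fromSpec.ge ((h₀.trans h₁).mem_open W.2 hW₂)
  have hind := hW.fromSpec.isOpenEmbedding.isInducing
  obtain ⟨Ω, _, _, V, φ, P, hker, hP, hcl⟩ := exists_chain_ring p₀ p₁ p₂ (hind.specializes_iff.1 h₀)
    (hind.specializes_iff.1 h₁)
  refine ⟨Ω, inferInstance, inferInstance, V, Spec.map (CommRingCat.ofHom φ) ≫ hW.fromSpec, ?_,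
    ⟨P, congrArg hW.fromSpec hP⟩, congrArg hW.fromSpec hcl⟩
  refine congrArg hW.fromSpec (PrimeSpectrum.ext ?_)
  show (Ideal.comap (algebraMap V Ω) (maximalIdeal Ω)).comap φ = _
  rw [IsLocalRing.maximalIdeal_eq_bot, ← hker, Ideal.comap_comap, ← RingHom.ker_eq_comap_bot,
    RingHom.ker_comp_of_injective _ (IsFractionRing.injective V Ω)]

/-- **points of the closure of a constructible subset of a closed set are specializations** -/
theorem exists_specializes_of_mem_closure {X : Scheme.{u}} {s Z : Set X} (hs : IsLocallyConstructible s)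
    (hZ : IsClosed Z) {x : X} (hx : x ∈ closure (s ∩ Z)) : ∃ y ∈ s ∩ Z, y ⤳ x := by
  obtain ⟨_, ⟨W, hW, rfl⟩, hxW, -⟩ :=
    X.isBasis_affineOpens.exists_subset_of_mem_open (Set.mem_univ x) isOpen_univ
  obtain ⟨p, rfl⟩ := hW.range_fromSpec.ge hxW
  let j := hW.fromSpec
  have hj : IsOpenEmbedding j := hW.fromSpec.isOpenEmbedding
  have hs' : IsConstructible (j ⁻¹' s) := (hs.preimage_of_isOpenEmbedding hj).isConstructible
  obtain ⟨S, _, f, hf⟩ := PrimeSpectrum.exists_range_eq_of_isConstructible hs'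
  obtain ⟨I, hI⟩ := (PrimeSpectrum.isClosed_iff_zeroLocus_ideal _).1
    ((hZ.preimage j.continuous).preimage (PrimeSpectrum.continuous_comap f))
  have hp : p ∈ closure (j ⁻¹' (s ∩ Z)) := by
    rw [hj.isInducing.closure_eq_preimage_closure_image, Set.image_preimage_eq_inter_range, Set.mem_preimage]
    exact (hj.isOpen_range.inter_closure (t := s ∩ Z)).trans (closure_mono (Set.inter_comm _ _).subset)
      ⟨⟨p, rfl⟩, hx⟩
  have hsub : j ⁻¹' (s ∩ Z) ⊆ PrimeSpectrum.zeroLocus (I.comap f : Set Γ(X, W)) := by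
    rintro q ⟨hq, hqZ⟩
    obtain ⟨q', rfl⟩ := hf.ge hq
    exact Ideal.comap_mono (hI.le hqZ)
  have hpI := closure_minimal hsub (PrimeSpectrum.isClosed_zeroLocus _) hp
  obtain ⟨q, hqI, hq, hqle⟩ := p.asIdeal.exists_ideal_comap_le_prime (f := f) I hpI
  exact ⟨j (PrimeSpectrum.comap f ⟨q, hq⟩), ⟨hf.le ⟨_, rfl⟩, hI.ge hqI⟩,
    ((PrimeSpectrum.le_iff_specializes _ _).1 hqle).map j.continuous⟩

end Groth.L08.MonoRed
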