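import Groth.Agent.L25.Dyn.TorusCentralizer
import Mathlib.Algebra.BigOperators.Finsupp.Basic

/-!
# Chambers of a finite group of automorphisms of a lattice

If a subgroup contains a reflection for each wall, every element of the group agrees up to the subgroup with one fixing
a regular functional.
-/

set_option autoImplicit false
set_option linter.style.haveILetI false

namespace Groth.L08.MonoRed

variable {r : ℕ}

/-- the coordinates of a vector on the line of another are proportional -/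
theorem coord_mul_eq {a₀ a : Fin r → ℤ} (h : ∀ f : (Fin r → ℤ) →+ ℤ, f a₀ = 0 → f a = 0) (f : (Fin r → ℤ) →+ ℤ)
    (i : Fin r) : a₀ i * f a = a i * f a₀ := by
  let p : (Fin r → ℤ) →+ ℤ := Pi.evalAddMonoidHom (fun _ => ℤ) i
  have h0 := h (a₀ i • f - f a₀ • p) (by
    simp [p, mul_comm])
  simp [p] at h0
  linarith

/-- A finite group with reflections in a subgroup: every element can be corrected to one fixing a regular vector. -/
theorem exists_fixed_regular (W W₀ : Set ((Fin r → ℤ) →+ (Fin r → ℤ))) (hW : W.Finite) (hid : AddMonoidHom.id _ ∈ W₀)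
    (hsub : W₀ ⊆ W) (hcomp : ∀ θ ∈ W, ∀ θ' ∈ W, θ.comp θ' ∈ W) (hcomp₀ : ∀ θ ∈ W₀, ∀ θ' ∈ W₀, θ.comp θ' ∈ W₀)
    (hinj : ∀ θ ∈ W, Function.Injective θ) (R : Finset (Fin r → ℤ)) (hR0 : ∀ a ∈ R, a ≠ 0)
    (hinv : ∀ θ ∈ W, ∀ f : (Fin r → ℤ) →+ ℤ, (∀ a ∈ R, f a ≠ 0) → ∀ a ∈ R, f (θ a) ≠ 0)
    (hrefl : ∀ a ∈ R, ∃ a₀, (∀ f : (Fin r → ℤ) →+ ℤ, f a₀ = 0 → f a = 0) ∧
      ∃ θ ∈ W₀, θ a₀ = -a₀ ∧ ∀ x, ∃ q : ℤ, θ x - x = q • a₀)
    {z : (Fin r → ℤ) →+ (Fin r → ℤ)} (hz : z ∈ W) :
    ∃ w ∈ W₀, ∃ f : (Fin r → ℤ) →+ ℤ, (∀ a ∈ R, f a ≠ 0) ∧ f.comp (z.comp w) = f := by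
  classical
  obtain ⟨μ, hμ⟩ := Groth.L25.Dyn.exists_generic R
  have hμR : ∀ a ∈ R, μ a ≠ 0 := fun a ha => hμ a ha (hR0 a ha)
  haveI := hW.fintype
  -- the invariant form
  let e : Fin r → Fin r → ℤ := fun i => Pi.single i 1
  let B : ((Fin r → ℤ) →+ ℤ) → ((Fin r → ℤ) →+ ℤ) → ℤ := fun f g =>
    ∑ θ : W, ∑ i, f (θ.1 (e i)) * g (θ.1 (e i))
  have Binv : ∀ s ∈ W, ∀ f g, B (f.comp s) (g.comp s) = B f g := by
    intro s hs f g
    let σ : W → W := fun θ => ⟨s.comp θ.1, hcomp s hs θ.1 θ.2⟩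
    have hσ : Function.Injective σ := fun θ θ' h => Subtype.ext (AddMonoidHom.ext fun x =>
      hinj s hs (DFunLike.congr_fun (congrArg Subtype.val h) x))
    exact hσ.bijective_of_finite.sum_comp (fun θ : W => ∑ i, f (θ.1 (e i)) * g (θ.1 (e i)))
  obtain ⟨w, hw, hmax⟩ := Set.exists_max_image W₀ (fun w => B (μ.comp (z.comp w)) μ) (hW.subset hsub)
    ⟨_, hid⟩
  let z' := z.comp w
  have hz' : z' ∈ W := hcomp z hz w (hsub hw)
  let Same : ((Fin r → ℤ) →+ ℤ) → ((Fin r → ℤ) →+ ℤ) → Prop := fun f g => ∀ a ∈ R, 0 < f a * g a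
  -- the corrected functional is in the chamber of `μ`
  have hsame : Same μ (μ.comp z') := by
    intro a ha
    obtain ⟨a₀, ha₀, s, hs, hs₀, hline⟩ := hrefl a ha
    have hne₀ : μ a₀ ≠ 0 := fun h => hμR a ha (ha₀ μ h)
    have ha₀0 : a₀ ≠ 0 := fun h => hne₀ (by rw [h, map_zero])
    choose q hq using hline
    let Q : (Fin r → ℤ) →+ ℤ := AddMonoidHom.mk' q fun x y => smul_left_injective ℤ ha₀0 (by
      show q (x + y) • a₀ = (q x + q y) • a₀
      rw [add_smul, ← hq, ← hq, ← hq, map_add]; abel)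
    have hQ : ∀ g : (Fin r → ℤ) →+ ℤ, g.comp s = g + g a₀ • Q := fun g => AddMonoidHom.ext fun x => by
      have h1 : g (s x - x) = g (q x • a₀) := by rw [hq]
      rw [map_sub, map_zsmul, sub_eq_iff_eq_add'] at h1
      simp [Q, h1, mul_comm]
    have hQ0 : Q a₀ = -2 := smul_left_injective ℤ ha₀0 (by
      show q a₀ • a₀ = (-2 : ℤ) • a₀
      rw [← hq, hs₀, neg_smul, two_zsmul]; abel)
    have hQQ : 0 < B Q Q := by
      refine Finset.sum_pos' (fun θ _ => Finset.sum_nonneg fun i _ => mul_self_nonneg _)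
        ⟨⟨_, hsub hid⟩, Finset.mem_univ _, ?_⟩
      refine lt_of_le_of_ne (Finset.sum_nonneg fun i _ => mul_self_nonneg _) fun h0 => ?_
      have h2 := (Finset.sum_eq_zero_iff_of_nonneg fun i _ => mul_self_nonneg _).1 h0.symm
      have : Q a₀ = 0 := by
        rw [show a₀ = ∑ i, a₀ i • e i by
          funext j; simp [e, Finset.sum_apply, Pi.single_apply]]
        rw [map_sum]
        refine Finset.sum_eq_zero fun i hi => ?_
        rw [map_zsmul, show Q (e i) = 0 from mul_self_eq_zero.1 (h2 i hi), smul_zero]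
      omega
    have Badd : ∀ (f g : (Fin r → ℤ) →+ ℤ) (c : ℤ) (h : (Fin r → ℤ) →+ ℤ), B (f + c • g) h = B f h + c * B g h := by
      intro f g c h
      simp only [B, Finset.mul_sum, ← Finset.sum_add_distrib]
      refine Finset.sum_congr rfl fun θ _ => Finset.sum_congr rfl fun i _ => ?_
      simp only [AddMonoidHom.add_apply, AddMonoidHom.smul_apply, smul_eq_mul]; ring
    have Bcomm : ∀ f g, B f g = B g f := fun f g =>
      Finset.sum_congr rfl fun θ _ => Finset.sum_congr rfl fun i _ => mul_comm _ _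
    have hμQ : 2 * B Q μ = -(μ a₀) * B Q Q := by
      have h1 := Binv s (hsub hs) μ μ
      rw [hQ, Badd, Bcomm μ (μ + μ a₀ • Q), Bcomm Q (μ + μ a₀ • Q), Badd, Badd, Bcomm μ Q] at h1
      have h3 : μ a₀ * (2 * B Q μ + μ a₀ * B Q Q) = 0 := by linarith
      linarith [(mul_eq_zero.1 h3).resolve_left hne₀]
    let f := μ.comp z'
    have hfa : f a ≠ 0 := hinv z' hz' μ hμR a ha
    have hle : B (f.comp s) μ ≤ B f μ := by
      have h := hmax (w.comp s) (hcomp₀ w hw s hs)
      simpa only [f, z', AddMonoidHom.comp_assoc] using h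
    rw [hQ, Badd] at hle
    have hf0 : f a₀ ≠ 0 := fun h => hfa (ha₀ f h)
    have hpos : 0 < μ a₀ * f a₀ := by
      rcases lt_or_gt_of_ne (mul_ne_zero hne₀ hf0) with h | h
      · exfalso
        have h5 : 2 * (f a₀ * B Q μ) = -(μ a₀ * f a₀) * B Q Q := by linear_combination f a₀ * hμQ
        nlinarith [mul_neg_of_neg_of_pos h hQQ]
      · exact h
    obtain ⟨i, hi⟩ := Function.ne_iff.1 ha₀0
    have e1 := coord_mul_eq ha₀ μ i
    have e2 := coord_mul_eq ha₀ f i
    have hai : a i ≠ 0 := fun h => hμR a ha ((mul_eq_zero.1 (by rw [e1, h, zero_mul])).resolve_left hi)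
    have h4 : a₀ i ^ 2 * (μ a * f a) = a i ^ 2 * (μ a₀ * f a₀) := by
      linear_combination (a₀ i * f a) * e1 + (a i * μ a₀) * e2
    have h6 : 0 < a₀ i ^ 2 * (μ a * f a) := by
      rw [h4]; exact mul_pos (lt_of_le_of_ne (sq_nonneg _) (Ne.symm (pow_ne_zero _ hai))) hpos
    exact (pos_iff_pos_of_mul_pos h6).1 (lt_of_le_of_ne (sq_nonneg _) (Ne.symm (pow_ne_zero _ hi)))
  -- the relation is invariant
  have hshift : ∀ f g, Same f g → Same (f.comp z') (g.comp z') := by
    intro f g h a ha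
    have hfR : ∀ b ∈ R, f b ≠ 0 := fun b hb e => by simpa [e] using h b hb
    have hgR : ∀ b ∈ R, g b ≠ 0 := fun b hb e => by simpa [e] using h b hb
    have hf := hinv z' hz' f hfR a ha
    have hg := hinv z' hz' g hgR a ha
    rcases lt_or_gt_of_ne (mul_ne_zero hf hg) with hlt | hgt
    · exfalso
      let α := |g (z' a)|
      let β := |f (z' a)|
      have hα : 0 < α := abs_pos.2 hg
      have hβ : 0 < β := abs_pos.2 hf
      refine hinv z' hz' (α • f + β • g) (fun b hb h0 => ?_) a ha ?_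
      · simp only [AddMonoidHom.add_apply, AddMonoidHom.smul_apply, smul_eq_mul] at h0
        have h7 : α * (f b * f b) + β * (f b * g b) = 0 := by linear_combination f b * h0
        linarith [mul_pos hβ (h b hb), mul_pos hα (mul_self_pos.2 (hfR b hb))]
      · simp only [AddMonoidHom.add_apply, AddMonoidHom.smul_apply, smul_eq_mul, α, β]
        rcases mul_neg_iff.1 hlt with ⟨h1, h2⟩ | ⟨h1, h2⟩
        · rw [abs_of_pos h1, abs_of_neg h2]; ring
        · rw [abs_of_neg h1, abs_of_pos h2]; ring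
    · exact hgt
  -- the orbit of `μ` stays in its chamber
  let fi : ℕ → ((Fin r → ℤ) →+ ℤ) := fun i => Nat.rec μ (fun _ g => g.comp z') i
  have hfi : ∀ i x, fi i x = μ (z'^[i] x) := by
    intro i
    induction i with
    | zero => intro x; rfl
    | succ i ih => intro x; show fi i (z' x) = _; rw [ih, Function.iterate_succ_apply]
  have hstep : ∀ i, Same (fi i) (fi (i + 1)) := fun i => by
    induction i with
    | zero => exact hsame
    | succ i ih => exact hshift _ _ ih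
  have hall : ∀ i, Same μ (fi i) := fun i => by
    induction i with
    | zero => exact fun a ha => mul_self_pos.2 (hμR a ha)
    | succ i ih =>
      intro a ha
      have h1 := ih a ha
      have h2 := hstep i a ha
      have h3 : 0 < (μ a * fi (i + 1) a) * (fi i a * fi i a) := by linarith [mul_pos h1 h2]
      exact (pos_iff_pos_of_mul_pos h3).2 (mul_self_pos.2 fun e => by simp [e] at h1)
  -- a period
  obtain ⟨d, hd, hper⟩ : ∃ d : ℕ, 0 < d ∧ ∀ x, z'^[d] x = x := by
    have hmem : ∀ i : ℕ, ∃ θ ∈ W, ∀ x, θ x = z'^[i] x := fun i => by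
      induction i with
      | zero => exact ⟨_, hsub hid, fun x => rfl⟩
      | succ i ih =>
        obtain ⟨θ, hθ, hx⟩ := ih
        exact ⟨z'.comp θ, hcomp _ hz' _ hθ, fun x => by
          rw [AddMonoidHom.comp_apply, hx, ← Function.iterate_succ_apply' z']⟩
    choose θ hθ hθx using hmem
    obtain ⟨i, j, hij, he⟩ := hW.exists_lt_map_eq_of_forall_mem (f := θ) hθ
    refine ⟨j - i, by omega, fun x => ?_⟩
    refine Function.Injective.iterate (hinj z' hz') i ?_
    rw [← Function.iterate_add_apply, Nat.add_sub_cancel' hij.le, ← hθx, ← hθx, he]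
  let μ₀ : (Fin r → ℤ) →+ ℤ := ∑ i ∈ Finset.range d, fi i
  have hμ₀ : ∀ x, μ₀ x = ∑ i ∈ Finset.range d, μ (z'^[i] x) := fun x => by
    simp [μ₀, AddMonoidHom.finsetSum_apply, hfi]
  refine ⟨w, hw, μ₀, fun a ha h0 => ?_, AddMonoidHom.ext fun x => ?_⟩
  · have : 0 < μ a * μ₀ a := by
      rw [hμ₀, Finset.mul_sum]
      refine Finset.sum_pos (fun i _ => ?_) ⟨0, Finset.mem_range.2 hd⟩
      rw [← hfi]; exact hall i a ha
    rw [h0, mul_zero] at this
    exact lt_irrefl _ this
  · show μ₀ (z' x) = μ₀ x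
    rw [hμ₀, hμ₀]
    have h1 := Finset.sum_range_succ (fun i => μ (z'^[i] x)) d
    have h2 := Finset.sum_range_succ' (fun i => μ (z'^[i] x)) d
    rw [hper] at h1
    simp only [Function.iterate_zero_apply, Function.iterate_succ_apply] at h2
    linarith

end Groth.L08.MonoRed
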