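import Groth.Agent.L08.MonoRed.GenExt
import Groth.Agent.L08.MonoRed.Binom
import Mathlib.AlgebraicGeometry.Morphisms.Finite
import Mathlib.RingTheory.IntegralClosure.IsIntegralClosure.Basic

/-!
# Extending a torus along a monomorphism

A torus of the generic fibre of an affine group whose image under a monomorphism of groups extends, extends: the
infinitesimal neighbourhoods of the unit see all the coefficients of the comorphism.
-/

set_option autoImplicit false
set_option linter.unusedSectionVars false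
set_option linter.style.haveILetI false
set_option backward.isDefEq.respectTransparency.types false
set_option linter.deprecated false

universe u

open CategoryTheory CategoryTheory.Limits MonoidalCategory CartesianMonoidalCategory MonObj GrpObj AlgebraicGeometry
open Groth.L25.SplitSub (bcDS bcHom char_bcDS char_DSmap)
open Groth.L25.NilAction (toBase ofBase toBase_ofBase ofBase_toBase toBase_one)
open Groth.L08.Borel (toBase_comp toBase_map' toBase_injective)
open Groth.L25 (DSPts.char DSPts.pt)

noncomputable section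

namespace Groth.L08.MonoRed

/-- thickenings of a section land in every open containing the image of the closed point -/
theorem range_thick {V R : Type u} [CommRing V] [IsLocalRing V] [CommRing R] (ε : R →+* V)
    (hε : Function.Surjective ε) (N : ℕ) {X : Scheme.{u}} (b : Spec (CommRingCat.of R) ⟶ X)
    (e : Spec (CommRingCat.of V) ⟶ X) (h : Spec.map (CommRingCat.ofHom ε) ≫ b = e) (O : X.Opens)
    (hO : e (IsLocalRing.closedPoint V) ∈ O) :
    Set.range (Spec.map (CommRingCat.ofHom (Ideal.Quotient.mk (RingHom.ker ε ^ N))) ≫ b) ⊆ Set.range O.ι := by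
  rintro _ ⟨x, rfl⟩
  rw [Scheme.Opens.range_ι, Scheme.Hom.comp_apply]
  let y : PrimeSpectrum R := PrimeSpectrum.comap (Ideal.Quotient.mk (RingHom.ker ε ^ N)) x
  have hy : RingHom.ker ε ≤ y.asIdeal := fun a ha => y.isPrime.mem_of_pow_mem N (by
    show Ideal.Quotient.mk _ (a ^ N) ∈ x.asIdeal
    rw [Ideal.Quotient.eq_zero_iff_mem.2 (Ideal.pow_mem_pow ha N)]
    exact zero_mem _)
  obtain ⟨p, hp⟩ : y ∈ Set.range (PrimeSpectrum.comap ε) := by
    rw [range_comap_of_surjective _ _ hε]
    exact hy
  show b y ∈ O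
  rw [← hp]
  have hpO : e p ∈ O := ((IsLocalRing.specializes_closedPoint p).map e.continuous).mem_open O.2 hO
  rw [← h] at hpO
  exact hpO

/-- the thickenings of a section of an algebra of finite type are finite -/
theorem finite_thick {V A : Type u} [CommRing V] [CommRing A] [Algebra V A] [Algebra.FiniteType V A]
    (ε : A →ₐ[V] V) (N : ℕ) : Module.Finite V (A ⧸ RingHom.ker ε.toRingHom ^ N) := by
  haveI : Algebra.FiniteType V (A ⧸ RingHom.ker ε.toRingHom ^ N) :=
    .of_surjective (Ideal.Quotient.mkₐ V _) (Ideal.Quotient.mkₐ_surjective V _)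
  haveI : Algebra.IsIntegral V (A ⧸ RingHom.ker ε.toRingHom ^ N) := ⟨fun x => by
    obtain ⟨a, rfl⟩ := Ideal.Quotient.mk_surjective x
    have h1 : a - algebraMap V A (ε a) ∈ RingHom.ker ε.toRingHom := by
      rw [RingHom.mem_ker]
      simp
    have h2 : _root_.IsIntegral V (Ideal.Quotient.mk (RingHom.ker ε.toRingHom ^ N) (a - algebraMap V A (ε a))) := by
      refine _root_.IsIntegral.of_pow (Nat.succ_pos N) ?_
      rw [← map_pow, Ideal.Quotient.eq_zero_iff_mem.2 (Ideal.pow_le_pow_right (Nat.le_succ N)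
        (Ideal.pow_mem_pow h1 _))]
      exact isIntegral_zero
    have h3 := h2.add (isIntegral_algebraMap (R := V) (A := A ⧸ RingHom.ker ε.toRingHom ^ N) (x := ε a))
    rwa [map_sub, Ideal.Quotient.mk_algebraMap, sub_add_cancel] at h3⟩
  exact Algebra.IsIntegral.finite

theorem augm_single (R : Type u) [CommRing R] (M : Type) [AddCommGroup M] (m : Multiplicative M) (c : R) :
    augm R M (MonoidAlgebra.single m c) = c := by
  simp [augm, MonoidAlgebra.lift_single]

theorem augm_scal {V : Type u} [CommRing V] {M : Type} [AddCommGroup M] (K : Type u) [CommRing K] [Algebra V K]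
    (x : GA V M) : augm K M (scal V M K x) = algebraMap V K (augm V M x) := by
  have h : (augm K M).toRingHom.comp (scal V M K) = (algebraMap V K).comp (augm V M).toRingHom :=
    MonoidAlgebra.ringHom_ext (fun c => by simp [scal]) fun m => by simp [scal]
  exact RingHom.congr_fun h x

/-- the unit of the split group in the group algebra -/
def augPt (V : Type u) [CommRing V] (M : Type) [AddCommGroup M] : 𝟙_ (Over (Spec (CommRingCat.of V))) ⟶ XM V M :=
  Over.homMk (Spec.map (CommRingCat.ofHom (augm V M).toRingHom)) (by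
    show Spec.map _ ≫ Spec.map _ = 𝟙 (Spec (CommRingCat.of V))
    rw [← Spec.map_comp, ← Spec.map_id]
    congr 1
    exact CommRingCat.hom_ext (RingHom.ext fun c => (augm V M).commutes c))

theorem augPt_pM (V : Type u) [CommRing V] (M : Type) [AddCommGroup M] : augPt V M ≫ pM V M = 1 := by
  refine Groth.L25.DSPts.char_injective (MonoidHom.ext fun m => ?_)
  rw [Groth.L25.DSPts.char_one, MonoidHom.one_apply, Groth.L25.DSPts.char_comp, pM, Groth.L25.DSPts.char_pt]
  refine (congrArg (fun z => z.hom (MonoidAlgebra.of V (Multiplicative M) m))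
    (Scheme.ΓSpecIso_inv_naturality (CommRingCat.ofHom (augm V M).toRingHom))).symm.trans ?_
  show (Scheme.ΓSpecIso (CommRingCat.of V)).inv (augm V M (MonoidAlgebra.of V (Multiplicative M) m)) = _
  rw [MonoidAlgebra.of_apply, augm_single]
  exact map_one (Scheme.ΓSpecIso (CommRingCat.of V)).inv.hom

variable {V : Type u} [CommRing V] [IsDomain V] [IsLocalRing V] (K : Type u) [Field K] [Algebra V K]
  [IsFractionRing V K] {G H : Over (Spec (CommRingCat.of V))} [GrpObj G] [GrpObj H] [IsAffineHom G.hom]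
  [LocallyOfFiniteType G.hom] {r : ℕ}

/-- **a torus whose image extends, extends** -/
theorem exists_extend (u : G ⟶ H) [IsMonHom u] [Mono u]
    (φ : Red.DS (Spec (CommRingCat.of K)) (Fin r → ℤ) ⟶ Red.bc (baseMap V K) G) [IsMonHom φ]
    (β : Red.DS (Spec (CommRingCat.of V)) (Fin r → ℤ) ⟶ H) [IsMonHom β]
    (h : φ ≫ (Over.pullback (baseMap V K)).map u = bcHom (baseMap V K) β) :
    ∃ χ : Red.DS (Spec (CommRingCat.of V)) (Fin r → ℤ) ⟶ G, IsMonHom χ ∧ bcHom (baseMap V K) χ = φ := by
  classical
  let M := Fin r → ℤ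
  haveI : IsAffine G.left := isAffine_of_isAffineHom G.hom
  let A : Type u := Γ(G.left, ⊤)
  let αA : CommRingCat.of V ⟶ Γ(G.left, ⊤) := Spec.preimage (G.left.isoSpec.inv ≫ G.hom)
  have hαA : Spec.map αA = G.left.isoSpec.inv ≫ G.hom := Spec.map_preimage _
  letI : Algebra V A := αA.hom.toAlgebra
  haveI : Algebra.FiniteType V A := by
    have h1 : LocallyOfFiniteType (Spec.map αA) := by rw [hαA]; infer_instance
    exact (HasRingHomProperty.Spec_iff (P := @LocallyOfFiniteType)).1 h1
  -- the unit
  let eG : Spec (CommRingCat.of V) ⟶ G.left := (1 : 𝟙_ (Over (Spec (CommRingCat.of V))) ⟶ G).left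
  let eH : Spec (CommRingCat.of V) ⟶ H.left := (1 : 𝟙_ (Over (Spec (CommRingCat.of V))) ⟶ H).left
  have heG : eG ≫ G.hom = 𝟙 _ := Over.w (1 : 𝟙_ (Over (Spec (CommRingCat.of V))) ⟶ G)
  obtain ⟨e₀, he₀⟩ := Spec.map_surjective (eG ≫ G.left.isoSpec.hom)
  let εA : A →ₐ[V] V :=
    { toRingHom := e₀.hom
      commutes' := fun c => by
        have h1 : αA ≫ e₀ = 𝟙 (CommRingCat.of V) := Spec.map_injective (by
          rw [Spec.map_comp, he₀, hαA, Category.assoc, Iso.hom_inv_id_assoc, heG, Spec.map_id])
        exact congrArg (fun z => z.hom c) h1 }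
  have hεA : Spec.map (CommRingCat.ofHom εA.toRingHom) ≫ G.left.isoSpec.inv = eG := by
    show Spec.map e₀ ≫ _ = _
    rw [he₀, Category.assoc, Iso.hom_inv_id, Category.comp_id]
  -- the generic torus
  let ψ : Over.mk ((XM K M).hom ≫ baseMap V K) ⟶ G := toBase (baseMap V K) (pM K M ≫ φ)
  obtain ⟨φ₀, hφ₀⟩ := Spec.map_surjective (ψ.left ≫ G.left.isoSpec.hom)
  let φA : A →+* GA K M := φ₀.hom
  have hψ : Spec.map (CommRingCat.ofHom φA) ≫ G.left.isoSpec.inv = ψ.left := by
    show Spec.map φ₀ ≫ _ = _
    rw [hφ₀, Category.assoc, Iso.hom_inv_id, Category.comp_id]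
  have hφalg : ∀ c, φA (algebraMap V A c) = algebraMap K (GA K M) (algebraMap V K c) := by
    have h1 : αA ≫ φ₀ = CommRingCat.ofHom ((algebraMap K (GA K M)).comp (algebraMap V K)) := Spec.map_injective (by
      rw [Spec.map_comp, hφ₀, hαA, Category.assoc, Iso.hom_inv_id_assoc, CommRingCat.ofHom_comp, Spec.map_comp]
      exact Over.w ψ)
    exact fun c => congrArg (fun z => z.hom c) h1
  have hφaug : ∀ a, augm K M (φA a) = algebraMap V K (εA a) := by
    let t : Over.mk ((𝟙_ (Over (Spec (CommRingCat.of K)))).hom ≫ baseMap V K) ⟶ 𝟙_ (Over (Spec (CommRingCat.of V))) :=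
      toUnit _
    have h1 : (Over.map (baseMap V K)).map (augPt K M) ≫ ψ = t ≫ 1 := by
      rw [← toBase_comp, ← Category.assoc, augPt_pM, MonObj.one_comp, toBase_one, MonObj.comp_one]
    have h2 := congrArg (fun z => z.left ≫ G.left.isoSpec.hom) h1
    change (Spec.map (CommRingCat.ofHom (augm K M).toRingHom) ≫ ψ.left) ≫ _ =
      ((𝟙 (Spec (CommRingCat.of K)) ≫ baseMap V K) ≫ eG) ≫ _ at h2
    rw [Category.id_comp, Category.assoc, Category.assoc, ← hφ₀, ← he₀, ← Spec.map_comp, ← Spec.map_comp] at h2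
    exact fun a => congrArg (fun z => z.hom a) (Spec.map_injective h2)
  -- the image
  let bl : Spec (CommRingCat.of (GA V M)) ⟶ H.left := (pM V M ≫ β).left
  have hbl : Spec.map (CommRingCat.ofHom (augm V M).toRingHom) ≫ bl = eH := by
    show (augPt V M ≫ pM V M ≫ β).left = _
    rw [← Category.assoc, augPt_pM, MonObj.one_comp]
  have hψu : ψ.left ≫ u.left = Spec.map (CommRingCat.ofHom (scal V M K)) ≫ bl := by
    have h1 : ψ ≫ u = genPt V M K ≫ pM V M ≫ β := by
      rw [genPt_comp, ← h, ← toBase_map', Category.assoc]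
    exact congrArg (fun z => z.left) h1
  have hu1 : eG ≫ u.left = eH := by
    show ((1 : 𝟙_ (Over (Spec (CommRingCat.of V))) ⟶ G) ≫ u).left = _
    rw [MonObj.one_comp]
  obtain ⟨_, ⟨O₀, hO, rfl⟩, heO, -⟩ := H.left.isBasis_affineOpens.exists_subset_of_mem_open
    (Set.mem_univ (eH (IsLocalRing.closedPoint V))) isOpen_univ
  let O : H.left.Opens := O₀
  haveI : IsAffine O.toScheme := hO
  -- congruences modulo all powers of the augmentation ideal
  have key : ∀ (a : A) (N : ℕ), ∃ q : GA V M, φA a - scal V M K q ∈ RingHom.ker (augm K M).toRingHom ^ N := by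
    intro a N
    let JA := RingHom.ker εA.toRingHom ^ N
    let JV := RingHom.ker (augm V M).toRingHom ^ N
    let JK := RingHom.ker (augm K M).toRingHom ^ N
    haveI : Module.Finite V (A ⧸ JA) := finite_thick εA N
    have hsurjA : Function.Surjective εA.toRingHom := fun c => ⟨algebraMap V A c, εA.commutes c⟩
    have hsurjV : Function.Surjective (augm V M).toRingHom := fun c => ⟨algebraMap V (GA V M) c, by simp⟩
    let qA := Spec.map (CommRingCat.ofHom (Ideal.Quotient.mk JA))
    let qV := Spec.map (CommRingCat.ofHom (Ideal.Quotient.mk JV))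
    let jA : Spec (CommRingCat.of (A ⧸ JA)) ⟶ O :=
      IsOpenImmersion.lift O.ι (qA ≫ G.left.isoSpec.inv ≫ u.left)
        (range_thick εA.toRingHom hsurjA N (G.left.isoSpec.inv ≫ u.left) eH (by rw [← Category.assoc, hεA, hu1]) O heO)
    let jV : Spec (CommRingCat.of (GA V M ⧸ JV)) ⟶ O :=
      IsOpenImmersion.lift O.ι (qV ≫ bl) (range_thick (augm V M).toRingHom hsurjV N bl eH hbl O heO)
    have hjA : jA ≫ O.ι = qA ≫ G.left.isoSpec.inv ≫ u.left := IsOpenImmersion.lift_fac _ _ _
    have hjV : jV ≫ O.ι = qV ≫ bl := IsOpenImmersion.lift_fac _ _ _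
    haveI : IsFinite jA := by
      haveI : IsSeparated (O.ι ≫ H.hom) := inferInstance
      have h1 : IsFinite (jA ≫ O.ι ≫ H.hom) := by
        rw [reassoc_of% hjA, Over.w u, ← hαA, ← Spec.map_comp]
        rw [IsFinite.SpecMap_iff]
        exact RingHom.finite_algebraMap.2 inferInstance
      exact MorphismProperty.of_postcomp (W := @IsFinite) (W' := @IsSeparated) jA (O.ι ≫ H.hom) inferInstance h1
    haveI : Mono jA := by
      haveI : IsClosedImmersion qA := IsClosedImmersion.spec_of_surjective _ Ideal.Quotient.mk_surjective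
      haveI : Mono (jA ≫ O.ι) := by rw [hjA]; infer_instance
      exact mono_of_mono jA O.ι
    haveI : IsClosedImmersion jA := (IsClosedImmersion.iff_isFinite_and_mono jA).2 ⟨inferInstance, inferInstance⟩
    obtain ⟨bA, hbA⟩ := Spec.map_surjective (jA ≫ O.toScheme.isoSpec.hom)
    obtain ⟨bV, hbV⟩ := Spec.map_surjective (jV ≫ O.toScheme.isoSpec.hom)
    haveI : IsClosedImmersion (Spec.map bA) := by rw [hbA]; infer_instance
    have hsurj : Function.Surjective bA.hom := fun y => by
      obtain ⟨x, hx⟩ := (IsClosedImmersion.isAffine_surjective_of_isAffine (Spec.map bA)).2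
        ((Scheme.ΓSpecIso (CommRingCat.of (A ⧸ JA))).inv.hom y)
      obtain ⟨x₀, rfl⟩ := (ConcreteCategory.bijective_of_isIso (Scheme.ΓSpecIso Γ(O.toScheme, ⊤)).inv).2 x
      exact ⟨x₀, (ConcreteCategory.bijective_of_isIso (Scheme.ΓSpecIso (CommRingCat.of (A ⧸ JA))).inv).1
        ((congrArg (fun z => z.hom x₀) (Scheme.ΓSpecIso_inv_naturality bA)).trans hx)⟩
    have hleV : JV ≤ JK.comap (scal V M K) := by
      refine le_trans ?_ (Ideal.le_comap_pow (scal V M K) N)
      refine Ideal.pow_right_mono (fun x hx => ?_) N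
      rw [Ideal.mem_comap, RingHom.mem_ker]
      show augm K M (scal V M K x) = 0
      rw [augm_scal, show augm V M x = 0 from hx, map_zero]
    have hleA : JA ≤ JK.comap φA := by
      refine le_trans ?_ (Ideal.le_comap_pow φA N)
      refine Ideal.pow_right_mono (fun x hx => ?_) N
      rw [Ideal.mem_comap, RingHom.mem_ker]
      show augm K M (φA x) = 0
      rw [hφaug, show εA x = 0 from hx, map_zero]
    let sN := Ideal.quotientMap JK (scal V M K) hleV
    let pN := Ideal.quotientMap JK φA hleA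
    have heq : Spec.map (CommRingCat.ofHom pN) ≫ jA = Spec.map (CommRingCat.ofHom sN) ≫ jV := by
      rw [← cancel_mono O.ι, Category.assoc, Category.assoc, hjA, hjV]
      have e1 : Spec.map (CommRingCat.ofHom pN) ≫ qA =
          Spec.map (CommRingCat.ofHom (Ideal.Quotient.mk JK)) ≫ Spec.map (CommRingCat.ofHom φA) := by
        rw [← Spec.map_comp, ← Spec.map_comp, ← CommRingCat.ofHom_comp, ← CommRingCat.ofHom_comp,
          Ideal.quotientMap_comp_mk]
      have e2 : Spec.map (CommRingCat.ofHom sN) ≫ qV =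
          Spec.map (CommRingCat.ofHom (Ideal.Quotient.mk JK)) ≫ Spec.map (CommRingCat.ofHom (scal V M K)) := by
        rw [← Spec.map_comp, ← Spec.map_comp, ← CommRingCat.ofHom_comp, ← CommRingCat.ofHom_comp,
          Ideal.quotientMap_comp_mk]
      rw [reassoc_of% e1, reassoc_of% hψ, reassoc_of% e2, hψu]
    have heq' := congrArg (· ≫ O.toScheme.isoSpec.hom) heq
    simp only [Category.assoc, ← hbA, ← hbV, ← Spec.map_comp] at heq'
    obtain ⟨b, hb⟩ := hsurj (Ideal.Quotient.mk JA a)
    obtain ⟨q, hq⟩ := Ideal.Quotient.mk_surjective (bV.hom b)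
    refine ⟨q, Ideal.Quotient.eq.1 ?_⟩
    have h3 : pN (bA.hom b) = sN (bV.hom b) := congrArg (fun z => z.hom b) (Spec.map_injective heq')
    rw [hb, ← hq] at h3
    exact h3
  -- the coefficients are integral
  have hex : ∀ a : A, ∃ q : GA V M, scal V M K q = φA a := fun a =>
    exists_map_eq (algebraMap V K) (φA a) fun N => by
      obtain ⟨q, hq⟩ := key a N
      exact ⟨q, Ideal.pow_right_mono (fun x hx => mem_span_of_augm hx) N hq⟩
  choose f hf using hex
  have hinj := scal_injective (V := V) (M := M) K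
  let χA : A →+* GA V M :=
    { toFun := f
      map_one' := hinj (by rw [hf, map_one, map_one])
      map_mul' := fun a b => hinj (by rw [hf, map_mul, map_mul, hf, hf])
      map_zero' := hinj (by rw [hf, map_zero, map_zero])
      map_add' := fun a b => hinj (by rw [hf, map_add, map_add, hf, hf]) }
  let χ₀ : XM V M ⟶ G := Over.homMk (Spec.map (CommRingCat.ofHom χA) ≫ G.left.isoSpec.inv) (by
    show (Spec.map _ ≫ G.left.isoSpec.inv) ≫ G.hom = Spec.map _
    rw [Category.assoc, ← hαA, ← Spec.map_comp]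
    congr 1
    refine CommRingCat.hom_ext (RingHom.ext fun c => hinj ?_)
    show scal V M K (f (algebraMap V A c)) = scal V M K (algebraMap V (GA V M) c)
    rw [hf, hφalg]
    exact (RingHom.congr_fun (scal_comp V M K) c).symm)
  let χ := inv (pM V M) ≫ χ₀
  have hχ : bcHom (baseMap V K) χ = φ := by
    rw [← cancel_epi (pM K M)]
    refine toBase_injective (baseMap V K) _ _ ?_
    rw [← genPt_comp, IsIso.hom_inv_id_assoc]
    refine Over.OverMorphism.ext ?_
    show Spec.map (CommRingCat.ofHom (scal V M K)) ≫ Spec.map (CommRingCat.ofHom χA) ≫ G.left.isoSpec.inv = ψ.left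
    rw [← Spec.map_comp_assoc, ← hψ]
    congr 2
    exact CommRingCat.hom_ext (RingHom.ext fun a => hf a)
  refine ⟨χ, Groth.L19.AlgGrpBasic.isMonHom_of_points' χ fun T x y => ?_, hχ⟩
  -- multiplicativity from the generic fibre
  let p₁ : M →+ M × M := AddMonoidHom.inl M M
  let p₂ : M →+ M × M := AddMonoidHom.inr M M
  let S₀ := Spec (CommRingCat.of V)
  have hdiag : ∀ (S : Scheme.{u}), Red.DSmap S (p₁ + p₂) = Red.DSmap S p₁ * Red.DSmap S p₂ := fun S => by
    rw [← Category.id_comp (Red.DSmap S (p₁ + p₂)), ← Category.id_comp (Red.DSmap S p₁),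
      ← Category.id_comp (Red.DSmap S p₂)]
    refine Groth.L25.DSPts.char_injective ?_
    rw [Groth.L25.DSPts.char_mul, char_DSmap, char_DSmap, char_DSmap]
    exact MonoidHom.ext fun m => map_mul (DSPts.char (𝟙 _)) (Multiplicative.ofAdd (p₁ m.toAdd)) _
  have huniv : Red.DSmap S₀ (p₁ + p₂) ≫ χ = (Red.DSmap S₀ p₁ ≫ χ) * (Red.DSmap S₀ p₂ ≫ χ) := by
    refine ext_generic K _ _ ?_
    have hmul : ∀ f g : Red.DS S₀ (M × M) ⟶ G,
        bcHom (baseMap V K) (f * g) = bcHom (baseMap V K) f * bcHom (baseMap V K) g := fun f g => by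
      rw [bcHom, bcHom, bcHom, show (Over.pullback (baseMap V K)).map (f * g) = _ from
        map_mul ((Over.pullback (baseMap V K)).homMonoidHom) f g, MonObj.comp_mul]
      rfl
    rw [hmul, bcHom_comp, bcHom_comp, bcHom_comp, hχ, hdiag, MonObj.mul_comp]
  let p : T ⟶ Red.DS S₀ (M × M) := DSPts.pt
    (((DSPts.char x).comp (AddMonoidHom.fst M M).toMultiplicative) *
      ((DSPts.char y).comp (AddMonoidHom.snd M M).toMultiplicative))
  have hp₁ : p ≫ Red.DSmap S₀ p₁ = x := Groth.L25.DSPts.char_injective (MonoidHom.ext fun m => by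
    rw [char_DSmap, Groth.L25.DSPts.char_pt]
    show DSPts.char x _ * DSPts.char y 1 = _
    rw [map_one, _root_.mul_one]
    rfl)
  have hp₂ : p ≫ Red.DSmap S₀ p₂ = y := Groth.L25.DSPts.char_injective (MonoidHom.ext fun m => by
    rw [char_DSmap, Groth.L25.DSPts.char_pt]
    show DSPts.char x 1 * DSPts.char y _ = _
    rw [map_one, _root_.one_mul]
    rfl)
  have h4 := congrArg (p ≫ ·) huniv
  simp only [← Category.assoc, MonObj.comp_mul, hp₁, hp₂] at h4
  rwa [hdiag, MonObj.comp_mul, hp₁, hp₂] at h4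

end Groth.L08.MonoRed
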