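import Groth.Agent.L08.MonoRed.Transfer
import Groth.Agent.L08.MonoRed.Nbhd
import Groth.Agent.L08.Borel.MaxToriConj
import Groth.Agent.L24.TorusField.Criteria
import Groth.Agent.S14754
import Groth.Agent.L08.TorusWeights.Radical

/-!
# Points sent to integral points by a monomorphism are integral

For a reductive group with a split maximal torus over a valuation ring with algebraically closed fraction field.
-/

set_option autoImplicit false
set_option linter.unusedSectionVars false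
set_option linter.style.haveILetI false
set_option backward.isDefEq.respectTransparency.types false
set_option maxHeartbeats 1000000
set_option linter.deprecated false

universe u

open CategoryTheory CategoryTheory.Limits MonoidalCategory CartesianMonoidalCategory MonObj GrpObj AlgebraicGeometry
open Groth.L25.SplitSub (bcDS bcHom char_bcDS char_DSmap isMonHom_bcHom bcDS_hom_bcHom)
open Groth.L25.NilAction (toBase ofBase toBase_ofBase ofBase_toBase toBase_one)
open Groth.L08.Borel (toBase_comp toBase_map' toBase_injective)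

noncomputable section

namespace Groth.L08.MonoRed

section Field

variable {k : Type u} [Field k] [IsAlgClosed k] {G : Over (Spec (CommRingCat.of k))} [GrpObj G] [IsAffine G.left]
  [Smooth G.hom] {r : ℕ}

/-- a torus of maximal rank is conjugate to the maximal torus -/
theorem exists_conj_DS {i j : Red.DS (Spec (CommRingCat.of k)) (Fin r → ℤ) ⟶ G} (hi : AGF.IsMaxTorus i)
    [IsMonHom j] [Mono j] : ∃ (g : 𝟙_ (Over (Spec (CommRingCat.of k))) ⟶ G)
      (f : Red.DS (Spec (CommRingCat.of k)) (Fin r → ℤ) ≅ Red.DS (Spec (CommRingCat.of k)) (Fin r → ℤ)),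
      f.hom ≫ j = AGF.conjBy g i := by
  haveI : QuasiCompact G.hom := quasiCompact_of_compactSpace _
  haveI : IsSeparated G.hom := inferInstance
  have hT := Groth.L01.Unip.isTorus_DS (Spec (CommRingCat.of k)) r
  obtain ⟨T₂, g₂, i₂, w, h₂, hw⟩ := Groth.L24.TorusField.exists_maximalTorus_containing j hT
  haveI := h₂.1; haveI := h₂.2.1
  obtain ⟨g, f, hf⟩ := Groth.L08.Borel.exists_maxTorus_conj_any hi
    (Groth.L24.TorusField.isMaxTorus_of_isMaximalTorus_field h₂)
  haveI : Smooth T₂.hom := (Groth.L25.Locus.smooth_connected_torus h₂.2.2.1).1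
  haveI : ConnectedSpace T₂.left := (Groth.L25.Locus.smooth_connected_torus h₂.2.2.1).2
  haveI : IsClosedImmersion (w.left ≫ i₂.left) := by
    rw [← Over.comp_left, hw]
    exact Groth.L25.MonoClosed.isClosedImmersion_of_mono (Groth.L25.Locus.isMultTypeFT_of_isTorus hT) j
  haveI : IsClosedImmersion i₂.left :=
    Groth.L25.MonoClosed.isClosedImmersion_of_mono (Groth.L25.Locus.isMultTypeFT_of_isTorus h₂.2.2.1) i₂
  haveI : IsClosedImmersion w.left := IsClosedImmersion.of_comp w.left i₂.left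
  haveI := Groth.L19.AlgGrpBasic.isIso_of_dim_eq w
    (IsHomeomorph.topologicalKrullDim_eq _ (Scheme.homeoOfIso ((Over.forget _).mapIso f)).isHomeomorph)
  exact ⟨g, f ≪≫ (asIso w).symm, by
    rw [Iso.trans_hom, Iso.symm_hom, asIso_inv, Category.assoc, ← hf]
    congr 1
    rw [IsIso.inv_comp_eq]
    exact hw.symm⟩

end Field

variable {V : Type u} [CommRing V] [IsDomain V] [ValuationRing V] [HenselianLocalRing V]
  [IsAlgClosed (IsLocalRing.ResidueField V)] {K : Type u} [Field K] [IsAlgClosed K] [Algebra V K] [IsFractionRing V K]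
  {G H : Over (Spec (CommRingCat.of V))} [GrpObj G] [GrpObj H] [IsAffineHom G.hom] [Smooth G.hom]
  [LocallyOfFiniteType H.hom] [QuasiCompact H.hom] {r : ℕ}
  (i : Red.DS (Spec (CommRingCat.of V)) (Fin r → ℤ) ⟶ G) [IsMonHom i] [Mono i]
  (hgK : Red.IsReductiveOver K (Red.bc (baseMap V K) G))
  (hgk : Red.IsReductiveOver (IsLocalRing.ResidueField V) (Red.bc (closedMap V) G))
  (hTK : AGF.IsMaxTorus (bcHom (baseMap V K) i)) (hTk : AGF.IsMaxTorus (bcHom (closedMap V) i))
  (u : G ⟶ H) [IsMonHom u] [Mono u]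

/-- morphisms between split groups that are injective in the generic fibre are injective -/
theorem mono_of_generic (χ : Red.DS (Spec (CommRingCat.of V)) (Fin r → ℤ) ⟶ G) [IsMonHom χ]
    (h : Mono (bcHom (baseMap V K) χ)) : Mono χ := by
  haveI : IsSeparated G.hom := inferInstance
  haveI : LocallyOfFinitePresentation G.hom := inferInstance
  haveI : QuasiCompact G.hom := inferInstance
  obtain ⟨U, hU, -, A, -, hgood⟩ := Groth.L25.SplitSub.exists_good_clopen χ (IsLocalRing.closedPoint V)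
  haveI := isMonHom_bcHom (baseMap V K) χ
  have hgK : Groth.L25.SplitSub.Good (bcHom (baseMap V K) χ) Set.univ A := fun T _ t => by
    rw [← Groth.L25.SplitSub.downPt_comp_eq_one_iff, ← Groth.L25.SplitSub.kills_downPt_iff (baseMap V K)]
    exact hgood _ (fun y => mem_of_closedPoint hU _) _
  obtain ⟨s⟩ : Nonempty ↥(Spec (CommRingCat.of K)) := inferInstance
  have hA : A = ⊤ := Groth.L25.SplitSub.Good.eq_top (bcHom (baseMap V K) χ) hgK (Set.mem_univ s)
  refine Groth.L25.SplitSub.mono_of_ker χ fun T t ht => ?_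
  have := (hgood T (fun y => mem_of_closedPoint hU _) t).1 ht
  rwa [hA, Groth.L25.SplitSub.kills_top_iff] at this

include hTk hgk in
/-- a split torus of full rank over the base is conjugate to the given one -/
theorem exists_conj_lift (χ : Red.DS (Spec (CommRingCat.of V)) (Fin r → ℤ) ⟶ G) [IsMonHom χ] [Mono χ] :
    ∃ (γ : 𝟙_ (Over (Spec (CommRingCat.of V))) ⟶ G) (ψ : Red.DS (Spec (CommRingCat.of V)) (Fin r → ℤ) ⟶
      Red.DS (Spec (CommRingCat.of V)) (Fin r → ℤ)), AGF.conjBy γ i = ψ ≫ χ := by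
  haveI : IsSeparated G.hom := inferInstance
  haveI := hgk.1; haveI := hgk.2.1
  let κ := closedMap V
  haveI := isMonHom_bcHom κ χ
  haveI : Mono (bcHom κ χ) := inferInstanceAs (Mono ((bcDS κ).inv ≫ (Over.pullback κ).map χ))
  obtain ⟨g₀, f₀, hf₀⟩ := exists_conj_DS (j := bcHom κ χ) hTk
  let f := bcDS κ ≪≫ f₀ ≪≫ (bcDS κ).symm
  have hf : f.hom ≫ (Over.pullback κ).map χ =
      (toUnit _ ≫ g₀) * (Over.pullback κ).map i * (toUnit _ ≫ g₀)⁻¹ := by
    show _ = AGF.conjBy g₀ ((Over.pullback κ).map i)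
    rw [← bcDS_hom_bcHom κ i, ← comp_conj, ← hf₀]
    simp only [f, Iso.trans_hom, Iso.symm_hom, Category.assoc]
    rfl
  obtain ⟨x, hx₁, hx₂⟩ := Groth.L08.Borel.exists_transporter_point κ g₀ f hf
  have m := Groth.L25.Locus.isMultTypeFT_of_isTorus (Groth.L01.Unip.isTorus_DS (Spec (CommRingCat.of V)) r)
  haveI := Groth.L25.MonoClosed.isClosedImmersion_of_mono m i
  haveI := Groth.L25.MonoClosed.isClosedImmersion_of_mono m χ
  have l := Groth.L25.Locus.locally_of_multTypeFT m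
  obtain ⟨W, j, hj, hl, hW⟩ := Groth.L25.Locus.exists_subgroupTransporter l l i χ
  haveI := Groth.L25.Locus.lfp_of_multTypeFT m
  have a₁ : LocallyOfFinitePresentation i.left := by
    have : LocallyOfFinitePresentation (i.left ≫ G.hom) := by rw [Over.w i]; infer_instance
    exact Groth.L20.locallyOfFinitePresentation_of_comp i.left G.hom
  have a₂ : LocallyOfFinitePresentation χ.left := by
    have : LocallyOfFinitePresentation (χ.left ≫ G.hom) := by rw [Over.w χ]; infer_instance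
    exact Groth.L20.locallyOfFinitePresentation_of_comp χ.left G.hom
  haveI := hl a₁ a₂
  haveI := hj
  haveI : Mono j := Over.mono_of_mono_left j
  haveI := Groth.L25.Locus.smooth_subgroupTransporter l l i χ j hW
  obtain ⟨w, -⟩ := (hW _ x).2 ⟨hx₁, hx₂⟩
  obtain ⟨σ, hσ, -⟩ := Groth.L05.SecLift.exists_section W.hom w.left (Over.w w)
  let γ : 𝟙_ (Over (Spec (CommRingCat.of V))) ⟶ G := Over.homMk σ hσ ≫ j
  obtain ⟨ψ, hψ⟩ := ((hW _ γ).1 ⟨Over.homMk σ hσ, rfl⟩).1 _ (toUnit _) (𝟙 _)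
  exact ⟨γ, ψ, by simpa only [AGF.conjBy, Category.id_comp] using hψ⟩

omit [IsAffineHom G.hom] [Smooth G.hom] in
/-- integral points of the torus -/
theorem exists_integral_torus_point (v : Red.DS (Spec (CommRingCat.of V)) (Fin r → ℤ) ⟶ H) [IsMonHom v] [Mono v]
    (t : 𝟙_ (Over (Spec (CommRingCat.of K))) ⟶ Red.DS (Spec (CommRingCat.of K)) (Fin r → ℤ))
    (h₂ : 𝟙_ (Over (Spec (CommRingCat.of V))) ⟶ H) (ht : t ≫ bcHom (baseMap V K) v = bcPt (baseMap V K) h₂) :
    ∃ τ : 𝟙_ (Over (Spec (CommRingCat.of V))) ⟶ Red.DS (Spec (CommRingCat.of V)) (Fin r → ℤ),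
      bcPt (baseMap V K) τ = t ≫ (bcDS (baseMap V K)).inv := by
  let ξ := baseMap V K
  let b : Spec (CommRingCat.of V) ⟶ Spec (CommRingCat.of V) := 𝟙 _
  let e : Groth.L25.Cocycle.X b K ⟶ Over.mk ((𝟙_ (Over (Spec (CommRingCat.of K)))).hom ≫ ξ) :=
    Over.homMk (𝟙 (Spec (CommRingCat.of K))) (by
      show 𝟙 _ ≫ 𝟙 (Spec (CommRingCat.of K)) ≫ ξ = ξ ≫ 𝟙 _
      rw [Category.id_comp, Category.id_comp, Category.comp_id])
  haveI : IsIso e := by
    haveI : IsIso ((Over.forget _).map e) := inferInstanceAs (IsIso (𝟙 (Spec (CommRingCat.of K))))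
    exact isIso_of_reflects_iso e (Over.forget _)
  let tS := toBase ξ (t ≫ (bcDS ξ).inv)
  obtain ⟨χ, hχ⟩ := ((Groth.L25.SplitSub.stdChart b (Fin r → ℤ)).bij K).2 (e ≫ tS)
  let c : 𝟙_ (Over (Spec (CommRingCat.of V))) ⟶ Groth.L25.Cocycle.X b V :=
    Over.homMk (𝟙 (Spec (CommRingCat.of V))) (by
      show 𝟙 _ ≫ Spec.map (CommRingCat.ofHom (algebraMap V V)) ≫ 𝟙 _ = 𝟙 _
      rw [Algebra.algebraMap_self, CommRingCat.ofHom_id, Spec.map_id, Category.id_comp, Category.id_comp])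
  have hu : ∀ {Y : Over (Spec (CommRingCat.of V))} (a : Groth.L25.Cocycle.X b K ⟶ Y)
      (a' : 𝟙_ (Over (Spec (CommRingCat.of V))) ⟶ Y), a = toUnit _ ≫ a' → a = e ≫ toUnit _ ≫ a' := fun a a' h => by
    rw [h, ← Category.assoc, toUnit_unique (e ≫ toUnit _) (toUnit _)]
  have hx : Groth.L25.Cocycle.mor b (Algebra.ofId V K) ≫ toUnit _ ≫ h₂ = Groth.L25.MonoClosed.imgPt b v χ := by
    rw [Groth.L25.MonoClosed.imgPt, hχ, Category.assoc,
      show tS ≫ v = toBase ξ (t ≫ bcHom ξ v) by rw [← toBase_map', bcHom, Category.assoc], ht, toBase_bcPt]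
    exact hu _ h₂ (by rw [← Category.assoc, toUnit_unique (_ ≫ toUnit _) (toUnit _)])
  have hv := Groth.L25.MonoClosed.val_eq_one χ hx
  choose a ha using fun m => (Groth.L25.MonoClosed.integers (R := V) (K := K)).exists_of_le_one (le_of_eq (hv m))
  let χV : Multiplicative (Fin r → ℤ) →* V :=
    { toFun := a
      map_one' := IsFractionRing.injective V K (by rw [ha, map_one, map_one])
      map_mul' := fun x y => IsFractionRing.injective V K (by rw [map_mul, ha, ha, ha, map_mul]) }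
  refine ⟨c ≫ (Groth.L25.SplitSub.stdChart b (Fin r → ℤ)).pt χV, ?_⟩
  refine toBase_injective ξ _ _ ?_
  rw [toBase_bcPt, ← cancel_epi e]
  refine Eq.trans (hu _ _ rfl).symm ?_
  show _ = e ≫ tS
  rw [← hχ, ← Category.assoc]
  have hc : toUnit _ ≫ c = Groth.L25.Cocycle.mor b (Algebra.ofId V K) := Over.OverMorphism.ext (by
    show (toUnit (Groth.L25.Cocycle.X b K)).left ≫ 𝟙 _ = _
    rw [Category.comp_id, show (toUnit (Groth.L25.Cocycle.X b K)).left = ξ ≫ 𝟙 _ from
      (Category.comp_id _).symm.trans (Over.w (toUnit (Groth.L25.Cocycle.X b K))), Category.comp_id]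
    rfl)
  rw [hc, (Groth.L25.SplitSub.stdChart b (Fin r → ℤ)).nat]
  exact congrArg _ (MonoidHom.ext ha)

include hgK hgk hTK hTk in
/-- **a generic point whose image is integral is integral** -/
theorem exists_integral_point (g : 𝟙_ (Over (Spec (CommRingCat.of K))) ⟶ Red.bc (baseMap V K) G)
    (h : 𝟙_ (Over (Spec (CommRingCat.of V))) ⟶ H)
    (hgh : g ≫ (Over.pullback (baseMap V K)).map u = bcPt (baseMap V K) h) :
    ∃ γ, bcPt (baseMap V K) γ = g := by
  let ξ := baseMap V K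
  haveI := hgK.1; haveI := hgK.2.1
  haveI := hTK.1; haveI := hTK.2.1
  haveI hu : IsMonHom ((Over.pullback ξ).map u) := Groth.L25.MonoClosed.isMonHom_pullbackMap _ _
  have hconj : ∀ {S : Scheme.{u}} {X X' Y : Over S} [GrpObj X] [GrpObj X'] (a : 𝟙_ (Over S) ⟶ X) (m : Y ⟶ X)
      (p : X ⟶ X') [IsMonHom p], AGF.conjBy a m ≫ p = AGF.conjBy (a ≫ p) (m ≫ p) := fun a m p _ => by
    simp only [AGF.conjBy, MonObj.mul_comp, GrpObj.inv_comp, Category.assoc]
  -- the torus over the base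
  let φ := AGF.conjBy g (bcHom ξ i)
  haveI : IsMonHom φ := Groth.L08.Borel.isMonHom_conjBy g (bcHom ξ i)
  let β := AGF.conjBy h (i ≫ u)
  haveI : IsMonHom β := Groth.L19.AlgGrpBasic.isMonHom_of_points' β fun T a b => by
    show (a * b) ≫ AGF.conjBy h (i ≫ u) = (a ≫ AGF.conjBy h (i ≫ u)) * (b ≫ AGF.conjBy h (i ≫ u))
    simp only [comp_conj, MonObj.mul_comp, AGF.conjBy]
    group
  have hφβ : φ ≫ (Over.pullback ξ).map u = bcHom ξ β := by
    rw [hconj, hgh]
    simp only [β, bcHom, Category.assoc, map_conj, comp_conj, Functor.map_comp]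
    rfl
  obtain ⟨χ, hχm, hχ⟩ := exists_extend K u φ β hφβ
  haveI := hχm
  haveI : Mono φ := Groth.L08.Borel.mono_conjBy g (bcHom ξ i)
  haveI : Mono χ := mono_of_generic χ (K := K) (hχ ▸ inferInstance)
  obtain ⟨γ, ψ, hψ⟩ := exists_conj_lift i hgk hTk χ
  -- the correcting point normalizes the torus
  let ψK := (bcDS ξ).inv ≫ (Over.pullback ξ).map ψ ≫ (bcDS ξ).hom
  have h1 : AGF.conjBy (g⁻¹ * bcPt ξ γ) (bcHom ξ i) = ψK ≫ bcHom ξ i := by
    have h2 : AGF.conjBy (bcPt ξ γ) (bcHom ξ i) = ψK ≫ φ := by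
      rw [← hχ, bcHom, bcHom, ← comp_conj, ← map_conj, hψ, Functor.map_comp]
      simp only [ψK, ξ, Category.assoc, Iso.hom_inv_id_assoc]
    rw [← conj_conj, h2, ← comp_conj, conj_conj, inv_mul_cancel, conj_one]
  haveI : IsMonHom (ψK ≫ bcHom ξ i) := h1 ▸ (Groth.L08.Borel.isMonHom_conjBy (g⁻¹ * bcPt ξ γ) (bcHom ξ i) :)
  haveI : IsMonHom ψK := Groth.L08.TorusWeights.isMonHom_of_mono ψK (bcHom ξ i) (ψK ≫ bcHom ξ i) rfl
  obtain ⟨θ, hθ⟩ := Groth.Agent.S14754.exists_DSmap ψK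
  obtain ⟨n, t, hnt⟩ := exists_weyl_lift i ξ hgK hgk hTK hTk (nK := g⁻¹ * bcPt ξ γ) (θ := θ)
    (h1.trans (by rw [hθ]))
  have hg : g = bcPt ξ γ * (t⁻¹ ≫ bcHom ξ i) * bcPt ξ n⁻¹ := by
    rw [inv_mul_eq_iff_eq_mul] at hnt
    rw [hnt, GrpObj.inv_comp, bcPt_inv]
    group
  -- the torus part
  let h₂ := (γ ≫ u)⁻¹ * h * (n⁻¹ ≫ u)⁻¹
  have hbu : ∀ a : 𝟙_ (Over (Spec (CommRingCat.of V))) ⟶ G,
      bcPt ξ a ≫ (Over.pullback ξ).map u = bcPt ξ (a ≫ u) := fun a => toBase_injective ξ _ _ (by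
    rw [toBase_map', toBase_bcPt, toBase_bcPt, Category.assoc])
  have ht : t⁻¹ ≫ bcHom ξ (i ≫ u) = bcPt ξ h₂ := by
    have h3 := hgh
    rw [hg, MonObj.mul_comp, MonObj.mul_comp, hbu, hbu, Category.assoc] at h3
    rw [bcPt_mul, bcPt_mul, bcPt_inv, bcPt_inv, ← h3]
    simp only [bcHom, Functor.map_comp, Category.assoc]
    group
    rfl
  obtain ⟨τ, hτ⟩ := exists_integral_torus_point (i ≫ u) t⁻¹ h₂ ht
  refine ⟨γ * (τ ≫ i) * n⁻¹, ?_⟩
  have hτi : bcPt ξ (τ ≫ i) = bcPt ξ τ ≫ (Over.pullback ξ).map i :=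
    (toBase_injective ξ _ _ (by rw [toBase_map', toBase_bcPt, toBase_bcPt, Category.assoc])).symm
  rw [bcPt_mul, bcPt_mul, hτi, hτ, Category.assoc, hg]
  rfl

end Groth.L08.MonoRed
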