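import Groth.Agent.L08.MonoRed.SplitTT
import Groth.Agent.L06.CoxeterElt.Reflect
import Groth.Agent.L25.Locus.Transporter
import Groth.Agent.L25.Component

/-!
# Regular cocharacters and walls of a maximal torus over an algebraically closed field

A cocharacter is regular when only the torus commutes with it; this happens exactly when it vanishes on none of
finitely many weights, and each of these carries a reflection induced by the normalizer.
-/

set_option autoImplicit false
set_option linter.unusedSectionVars false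
set_option linter.style.haveILetI false
set_option backward.isDefEq.respectTransparency.types false
set_option maxHeartbeats 1000000
set_option linter.deprecated false

universe u

open CategoryTheory CategoryTheory.Limits MonoidalCategory CartesianMonoidalCategory MonObj GrpObj AlgebraicGeometry
open WithConv
open Groth.L25.Bridge (P)
open Groth.L08.TorusQuot (sp exists_sp toPt ofPt toPt_ofPt toPt_pre toPt_post pre post SP spA)
open Groth.L25.Dyn (TorCommutes torO Hom lamW pmap)
open Groth.L06.CoxeterElt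

noncomputable section

namespace Groth.L08.MonoRed

section Defs

variable {S : Scheme.{u}} {G X₀ Y : Over S} [GrpObj G]

/-- the point commutes universally with the image -/
def CommP (i : X₀ ⟶ G) (g : Y ⟶ G) : Prop :=
  ∀ (X : Over S) (x : X ⟶ Y) (t : X ⟶ X₀), (x ≫ g) * (t ≫ i) = (t ≫ i) * (x ≫ g)

/-- a linear form as a map to the character group of the one-dimensional torus -/
def one {r : ℕ} (f : (Fin r → ℤ) →+ ℤ) : (Fin r → ℤ) →+ (Fin 1 → ℤ) :=
  AddMonoidHom.mk' (fun x _ => f x) fun x y => funext fun _ => map_add f x y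

/-- only points commuting with the torus commute with the cocharacter -/
def Reg {r : ℕ} (i : Red.DS S (Fin r → ℤ) ⟶ G) (f : (Fin r → ℤ) →+ ℤ) : Prop :=
  ∀ (Y : Over S) (g : Y ⟶ G), CommP (Red.DSmap S (one f) ≫ i) g → CommP i g

/-- the point acts on the torus through the map of characters -/
def ActsDS {r : ℕ} (i : Red.DS S (Fin r → ℤ) ⟶ G) (n : 𝟙_ (Over S) ⟶ G)
    (θ : (Fin r → ℤ) →+ (Fin r → ℤ)) : Prop :=
  AGF.conjBy n i = Red.DSmap S θ ≫ i

theorem commP_comp_iff {X₁ : Over S} (e : X₁ ⟶ X₀) [IsIso e] (i : X₀ ⟶ G) (g : Y ⟶ G) :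
    CommP (e ≫ i) g ↔ CommP i g := by
  refine ⟨fun h X x t => ?_, fun h X x t => ?_⟩
  · have := h X x (t ≫ inv e)
    simpa using this
  · simpa using h X x (t ≫ e)

end Defs

variable {k : Type u} [Field k] {A : Type u} [CommRing A] [HopfAlgebra k A] {r r' : ℕ} (φ : A →ₐc[k] TB k r)

/-- commuting with the image of a torus gives the algebraic commutation -/
theorem torCommutes_of_commP (p : (Fin r → ℤ) →+ (Fin r' → ℤ)) {D : Type u} [CommRing D] [Algebra k D]
    (g : A →ₐ[k] D) (h : CommP (dP k p ≫ sp φ) (toPt (toConv g))) : TorCommutes ((md k p).comp φ) g := by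
  intro D' _ _ ψ χ
  have h1 := h (SP k D') (spA ψ) (toPt (toConv χ))
  rw [← toPt_post, ← Category.assoc, ← toPt_pre, ← toPt_pre, toPt, toPt, ← map_mul, ← map_mul] at h1
  exact (Spec.mapMulEquiv.injective h1).symm

/-- a point commuting with a cocharacter kills the pieces pairing non-trivially with it -/
theorem kills_piece (f : (Fin r → ℤ) →+ ℤ) {D : Type u} [CommRing D] [Algebra k D] {g : A →ₐ[k] D}
    (h : TorCommutes ((md k (one f)).comp φ) g) {n : Fin r → ℤ} (hn : f n ≠ 0) (y : A) :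
    g (piece φ n y) = 0 := by
  classical
  have h1 := h.conjOrbit _ (Pi.evalAddMonoidHom (fun _ : Fin 1 => ℤ) 0)
  have e : lamW ((md k (one f)).comp φ) (Pi.evalAddMonoidHom (fun _ : Fin 1 => ℤ) 0) = lamW φ f := by
    simp only [lamW, md]
    rw [← BialgHom.comp_assoc, ← AddMonoidAlgebra.mapDomainBialgHom_comp]
    rfl
  rw [e] at h1
  have hhom : Hom (lamW φ f) (f n) (piece φ n y) := by
    show Groth.L25.Dyn.cO (lamW φ f) _ = _
    rw [← Groth.L25.Dyn.mapDomain_torO, torO_piece]
    exact AddMonoidAlgebra.mapDomain_single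
  exact (Groth.L25.Dyn.commutes_iff (lamW φ f) g).1 h1 (f n) hn _ hhom

/-- the weights of the cotangent space -/
def weights : Set (Fin r → ℤ) := {a | a ≠ 0 ∧ ∃ y, piece φ a y ∉ aug k A ^ 2}

/-- there are finitely many -/
theorem weights_finite [Algebra.FiniteType k A] : (weights φ).Finite := by
  classical
  obtain ⟨s, hs⟩ := (‹Algebra.FiniteType k A›).out
  let F : Finset (Fin r → ℤ) := s.biUnion fun a => (torO φ a).coeff.support
  refine F.finite_toSet.subset fun n hn => by_contra fun hF => ?_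
  obtain ⟨hn0, y, hy⟩ := hn
  refine hy ?_
  have key : ∀ x : A, piece φ n x ∈ aug k A ^ 2 := by
    intro x
    have hx : x ∈ Algebra.adjoin k (s : Set A) := hs ▸ Algebra.mem_top
    induction hx using Algebra.adjoin_induction with
    | mem x hx =>
      rw [piece, Finsupp.notMem_support_iff.1 fun h => hF (Finset.mem_biUnion.2 ⟨x, hx, h⟩)]
      exact Ideal.zero_mem _
    | algebraMap c =>
      rw [piece, AlgHom.commutes, AddMonoidAlgebra.coe_algebraMap]
      simp [AddMonoidAlgebra.coeff_single_apply, Ne.symm hn0]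
    | add u v _ _ hu hv => rw [piece_add]; exact Ideal.add_mem _ hu hv
    | mul u v _ _ hu hv =>
      rw [piece_mul]
      refine Ideal.sum_mem _ fun i _ => ?_
      by_cases hi : i = 0
      · subst hi; rw [sub_zero]; exact Ideal.mul_mem_left _ _ hv
      · by_cases hni : n - i = 0
        · rw [hni, ← sub_eq_zero.1 hni]; exact Ideal.mul_mem_right _ _ hu
        · rw [pow_two]; exact Ideal.mul_mem_mul (counit_piece φ hi u) (counit_piece φ hni v)
  exact key y

/-- a cocharacter missing the weights: killing its pieces kills all pieces -/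
theorem piece_mem_of_prime {f : (Fin r → ℤ) →+ ℤ} (hf : ∀ a ∈ weights φ, f a ≠ 0) [IsNoetherianRing A]
    (J : Ideal A) [J.IsPrime] (hJ : J ≤ aug k A) (hfJ : ∀ n y, f n ≠ 0 → piece φ n y ∈ J) {n : Fin r → ℤ}
    (hn : n ≠ 0) (y : A) : piece φ n y ∈ J := by
  classical
  let E : Ideal A := Ideal.span {z | ∃ n y, n ≠ 0 ∧ z = piece φ n y}
  have hE : E ≤ aug k A * E ⊔ J := by
    refine Ideal.span_le.2 ?_
    rintro _ ⟨n, y, hn, rfl⟩
    by_cases hfn : f n = 0
    · have hy : piece φ n y ∈ aug k A ^ 2 := by_contra fun h => hf n ⟨hn, y, h⟩ hfn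
      have key : ∀ z ∈ aug k A * aug k A, ∀ q, q ≠ 0 → piece φ q z ∈ aug k A * E := by
        intro z hz
        refine Submodule.mul_induction_on hz (fun u hu v hv q hq => ?_) fun u v hu hv q hq => ?_
        · rw [piece_mul]
          refine Ideal.sum_mem _ fun i _ => ?_
          by_cases hi : i = 0
          · refine Ideal.mul_mem_mul (piece_mem_aug φ hu i) (Ideal.subset_span ⟨q - i, v, ?_, rfl⟩)
            rwa [hi, sub_zero]
          · rw [mul_comm (piece φ i u)]
            exact Ideal.mul_mem_mul (piece_mem_aug φ hv _) (Ideal.subset_span ⟨i, u, hi, rfl⟩)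
        · rw [piece_add]; exact Ideal.add_mem _ (hu q hq) (hv q hq)
      have h1 := key _ (by rwa [← pow_two]) n hn
      have h2 : piece φ n (piece φ n y) = piece φ n y := by
        rw [piece, torO_piece, AddMonoidAlgebra.coeff_single_apply, if_pos rfl]
      rw [h2] at h1
      exact Ideal.mem_sup_left h1
    · exact Ideal.mem_sup_right (hfJ n y hfn)
  have hE' : E.map (Ideal.Quotient.mk J) ≤ (aug k A).map (Ideal.Quotient.mk J) • E.map (Ideal.Quotient.mk J) := by
    rw [smul_eq_mul, ← Ideal.map_mul]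
    refine (Ideal.map_mono hE).trans ?_
    rw [Ideal.map_sup, Ideal.map_quotient_self, sup_bot_eq]
  obtain ⟨e, he1, he2⟩ := Submodule.exists_sub_one_mem_and_smul_eq_zero_of_fg_of_le_smul
    ((aug k A).map (Ideal.Quotient.mk J)) (E.map (Ideal.Quotient.mk J)) (IsNoetherian.noetherian _) hE'
  have he0 : e ≠ 0 := by
    rintro rfl
    rw [zero_sub, neg_mem_iff, ← map_one (Ideal.Quotient.mk J)] at he1
    obtain ⟨z, hz, hz'⟩ := (Ideal.mem_map_iff_of_surjective _ Ideal.Quotient.mk_surjective).1 he1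
    have h1 : (1 : A) ∈ aug k A := by
      have := (aug k A).sub_mem hz (hJ (Ideal.Quotient.eq.1 hz'))
      rwa [sub_sub_cancel] at this
    exact RingHom.ker_ne_top _ ((Ideal.eq_top_iff_one _).2 h1)
  have h3 : e * Ideal.Quotient.mk J (piece φ n y) = 0 :=
    he2 _ (Ideal.mem_map_of_mem _ (Ideal.subset_span ⟨n, y, hn, rfl⟩))
  exact Ideal.Quotient.eq_zero_iff_mem.1 ((mul_eq_zero.1 h3).resolve_left he0)

variable {G : Over (Spec (CommRingCat.of k))} [GrpObj G] (i : Red.DS (Spec (CommRingCat.of k)) (Fin r → ℤ) ⟶ G)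
  (jG : G ⟶ P k A) [IsMonHom jG] [IsIso jG]

theorem toPt_affine {W : Over (Spec (CommRingCat.of k))} [IsAffine W.left] :
    ∃ (D : Type u) (_ : CommRing D) (_ : Algebra k D), Nonempty (SP k D ≅ W) := by
  letI : Algebra k Γ(W.left, ⊤) := (Spec.preimage (W.left.isoSpec.inv ≫ W.hom)).hom.toAlgebra
  exact ⟨Γ(W.left, ⊤), inferInstance, inferInstance, ⟨Over.isoMk W.left.isoSpec.symm (Spec.map_preimage _).symm⟩⟩

theorem commP_one_iff (hφ : sp φ = toDS k r ≫ i ≫ jG) (p : (Fin r → ℤ) →+ (Fin r' → ℤ))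
    {Y : Over (Spec (CommRingCat.of k))} (g : Y ⟶ G) :
    CommP (Red.DSmap (Spec (CommRingCat.of k)) p ≫ i) g ↔ CommP (dP k p ≫ sp φ) (g ≫ jG) := by
  rw [← commP_comp_iff (toDS k r') (Red.DSmap _ p ≫ i), ← Category.assoc, ← dP_toDS, hφ, Category.assoc]
  refine ⟨fun h X x t => ?_, fun h X x t => ?_⟩
  · have := congrArg (· ≫ jG) (h X x t)
    simpa only [MonObj.mul_comp, Category.assoc] using this
  · rw [← cancel_mono jG]
    simpa only [MonObj.mul_comp, Category.assoc] using h X x t

variable [IsAlgClosed k]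

/-- **regularity is missing the weights** -/
theorem reg_iff [IsAffine G.left] [Smooth G.hom] [ConnectedSpace G.left] [IsMonHom i]
    [Algebra.FiniteType k A] (hφ : sp φ = toDS k r ≫ i ≫ jG) (f : (Fin r → ℤ) →+ ℤ) :
    Reg i f ↔ ∀ a ∈ weights φ, f a ≠ 0 := by
  classical
  haveI : IsNoetherianRing A := Algebra.FiniteType.isNoetherianRing k A
  have hid : dP k (AddMonoidHom.id (Fin r → ℤ)) ≫ sp φ = sp φ := by rw [dP_id, Category.id_comp]
  have hcommI : ∀ {Y : Over (Spec (CommRingCat.of k))} (g : Y ⟶ G), CommP i g ↔ CommP (sp φ) (g ≫ jG) := fun g => by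
    rw [← commP_comp_iff (toDS k r) i, hφ]
    refine ⟨fun h X x t => ?_, fun h X x t => ?_⟩
    · have := congrArg (· ≫ jG) (h X x t)
      simpa only [MonObj.mul_comp, Category.assoc] using this
    · rw [← cancel_mono jG]
      simpa only [MonObj.mul_comp, Category.assoc] using h X x t
  constructor
  · intro hreg a ha hfa
    obtain ⟨ha0, y, hy⟩ := ha
    obtain ⟨D, _, _, g, hg1, hg2⟩ := exists_extra φ (one f) (funext fun _ => hfa) ha0 hy
    refine hg2 ?_
    let g₀ : SP k D ⟶ G := toPt (toConv g) ≫ inv jG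
    have hg₀ : g₀ ≫ jG = toPt (toConv g) := by rw [Category.assoc, IsIso.inv_hom_id, Category.comp_id]
    have h1 := hreg _ g₀ ((commP_one_iff φ i jG hφ (one f) g₀).2 fun X x t => by
      rw [hg₀]; exact commute_of_torCommutes φ (one f) hg1 x t)
    rw [hcommI, hg₀] at h1
    have h2 := torCommutes_of_commP φ (AddMonoidHom.id _) g (by rwa [hid])
    rwa [md, AddMonoidAlgebra.mapDomainBialgHom_id, BialgHom.id_comp] at h2
  · intro hf
    -- the centralizer of the cocharacter
    let u : Red.DS (Spec (CommRingCat.of k)) (Fin 1 → ℤ) ⟶ G := Red.DSmap _ (one f) ≫ i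
    haveI : IsMonHom u := inferInstanceAs (IsMonHom (Red.DSmap _ (one f) ≫ i))
    have hT : Red.IsTorus (Red.DS (Spec (CommRingCat.of k)) (Fin 1 → ℤ)) :=
      Groth.L25.TorLift.isTorus_of_iso (Grp.mkIso' (asIso (toDS k 1))) (isTorus_TT k 1)
    haveI : IsAffineHom G.hom := isAffineHom_of_isAffine _
    obtain ⟨Z, gZ, z, hz, hzc, hZs⟩ := Groth.L25.Locus.exists_smooth_centralizer
      (Groth.L25.Locus.locally_of_multTypeFT (Groth.L25.Locus.isMultTypeFT_of_isTorus hT)) u
    haveI := hzc; haveI := hZs; haveI := hz.1; haveI := hz.2.1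
    haveI : IsAffine Z.left := isAffine_of_isAffineHom z.left
    haveI : LocallyOfFiniteType Z.hom := inferInstance
    haveI : ConnectedSpace Z.left := Groth.L25.Dyn.connectedSpace_centralizer G _ u hT Z z hz
    haveI : IsLocallyNoetherian Z.left := LocallyOfFiniteType.isLocallyNoetherian Z.hom
    haveI : IrreducibleSpace Z.left := Groth.L25.Component.irreducibleSpace Z
    haveI : IsReduced Z.left := Groth.Agent.AV.isReduced_of_smooth_field Z.hom
    haveI : AlgebraicGeometry.IsIntegral Z.left := isIntegral_of_irreducibleSpace_of_isReduced _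
    obtain ⟨D, _, _, ⟨e⟩⟩ := toPt_affine (W := Z)
    haveI : IsDomain D := by
      haveI : AlgebraicGeometry.IsIntegral (Spec (CommRingCat.of D)) :=
        AlgebraicGeometry.IsIntegral.of_isIso (h := ‹AlgebraicGeometry.IsIntegral Z.left›) ((Over.forget _).mapIso e).inv
      exact affine_isIntegral_iff (CommRingCat.of D) |>.1 ‹_›
    let q : A →ₐ[k] D := (ofPt (e.hom ≫ z ≫ jG)).ofConv
    have hqz : toPt (toConv q) = e.hom ≫ z ≫ jG := toPt_ofPt _
    have hqkill : ∀ n y, f n ≠ 0 → q (piece φ n y) = 0 := fun n y hn => by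
      refine kills_piece φ f (torCommutes_of_commP φ (one f) q ?_) hn y
      rw [hqz]
      have h1 := (commP_one_iff φ i jG hφ (one f) (e.hom ≫ z)).1 fun X x t => by
        exact ((hz.2.2 _ (e.hom ≫ z)).1 ⟨e.hom, rfl⟩ X x t)
      rwa [Category.assoc] at h1
    haveI : (RingHom.ker q).IsPrime := RingHom.ker_isPrime _
    have hker : RingHom.ker q ≤ aug k A := by
      -- the unit lies in the centralizer
      intro a ha
      obtain ⟨w, hw⟩ := (hz.2.2 (SP k k) 1).2 fun X x t => by
        rw [MonObj.comp_one, _root_.one_mul, _root_.mul_one]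
      obtain ⟨ψ, hψ⟩ := Groth.L25.Dyn.exists_algHom (w ≫ e.inv)
      have h1 : toPt (post ψ (toConv q)) = toPt (1 : Groth.L08.TorusQuot.Pt k A k) := by
        rw [toPt_post, hqz, Groth.L08.TorusQuot.toPt_one]
        show spA ψ ≫ _ = _
        rw [show spA ψ = w ≫ e.inv from hψ.symm, Category.assoc, Iso.inv_hom_id_assoc, ← Category.assoc, hw,
          MonObj.one_comp]
      have h2 := DFunLike.congr_fun (congrArg WithConv.ofConv (Spec.mapMulEquiv.injective h1)) a
      rw [AlgHom.convOne_apply] at h2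
      change ψ (q a) = _ at h2
      rw [RingHom.mem_ker.1 ha, map_zero] at h2
      exact RingHom.mem_ker.2 h2.symm
    have hall : ∀ n y, n ≠ 0 → q (piece φ n y) = 0 := fun n y hn =>
      RingHom.mem_ker.1 (piece_mem_of_prime φ hf (RingHom.ker q) hker
        (fun n y hn => RingHom.mem_ker.2 (hqkill n y hn)) hn y)
    have hZcomm : CommP i (e.hom ≫ z) := by
      rw [hcommI, ← hid, Category.assoc, ← hqz]
      intro X x t
      exact commute_of_torCommutes φ (AddMonoidHom.id _)
        (torCommutes_of_pieces φ (AddMonoidHom.id _) q fun n y hn => hall n y hn) x t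
    intro Y g hg
    obtain ⟨v, rfl⟩ := (hz.2.2 Y g).2 hg
    intro X x t
    have := hZcomm X (x ≫ v ≫ e.inv) t
    simpa only [Category.assoc, Iso.inv_hom_id_assoc] using this

/-- the data of the walls -/
theorem exists_walls (hG : Red.IsReductiveOver k G) (hT : AGF.IsMaxTorus i) :
    ({θ | ∃ n, ActsDS i n θ} : Set _).Finite ∧
    (∀ n θ, ActsDS i n θ → Function.Injective θ ∧ ∃ θ', ActsDS i n⁻¹ θ' ∧ θ'.comp θ = AddMonoidHom.id _) ∧
    ∃ R : Finset (Fin r → ℤ), (∀ a ∈ R, a ≠ 0) ∧ (∀ f, Reg i f ↔ ∀ a ∈ R, f a ≠ 0) ∧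
      ∀ a ∈ R, ∃ a₀, (∀ f : (Fin r → ℤ) →+ ℤ, f a₀ = 0 → f a = 0) ∧
        ∃ θ, (∃ n, ActsDS i n θ) ∧ θ a₀ = -a₀ ∧ ∀ x, ∃ q : ℤ, θ x - x = q • a₀ := by
  classical
  haveI := hG.1; haveI := hG.2.1; haveI := hG.2.2.1; haveI := hT.1; haveI := hT.2.1
  obtain ⟨A, _, _, ⟨eG⟩⟩ := Groth.L25.Bridge.exists_hopf G
  let jG : G ⟶ P k A := eG.hom.hom.hom
  haveI : IsMonHom jG := eG.hom.hom.isMonHom_hom
  haveI : IsIso jG := ⟨eG.inv.hom.hom, congrArg (fun f => f.hom.hom) eG.hom_inv_id,
    congrArg (fun f => f.hom.hom) eG.inv_hom_id⟩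
  haveI : IsIso jG.left := inferInstanceAs (IsIso ((Over.forget _).map jG))
  haveI : IsMonHom (inv jG) := inferInstanceAs (IsMonHom (asIso jG).inv)
  have hsm : Smooth (P k A).hom := by
    haveI : IsIso (inv jG).left := inferInstanceAs (IsIso ((Over.forget _).map (inv jG)))
    rw [← Over.w (inv jG)]
    infer_instance
  haveI : Algebra.FiniteType k A := by
    have h : LocallyOfFiniteType (Spec.map (CommRingCat.ofHom (algebraMap k A))) :=
      haveI := hsm
      inferInstanceAs (LocallyOfFiniteType (P k A).hom)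
    rwa [HasRingHomProperty.Spec_iff (P := @LocallyOfFiniteType), CommRingCat.hom_ofHom,
      RingHom.finiteType_algebraMap] at h
  let iT : TT k r ⟶ G := toDS k r ≫ i
  have hiT : AGF.IsMaxTorus iT := ⟨inferInstance, mono_comp _ _, isTorus_TT k r, fun T' _ j _ _ f hT' hf => by
    haveI : IsIso (inv (toDS k r) ≫ f) := hT.2.2.2 T' j _ hT' (by
      rw [Category.assoc, hf, IsIso.inv_hom_id_assoc])
    exact IsIso.of_isIso_comp_left (inv (toDS k r)) f⟩
  obtain ⟨φ, hφ⟩ := exists_sp (iT ≫ jG)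
  have hφ' : sp φ = toDS k r ≫ i ≫ jG := by rw [hφ, Category.assoc]
  obtain ⟨B, B', gB, gB', iB, iB', u, u', -, hB, -, hu, -, -, -⟩ := Groth.L14.Luna.exists_general_position hiT
  have hfin := weyl_finite hiT hB hu
  have hacts : ∀ n θ, Acts iT n θ ↔ ActsDS i n θ := fun n θ => by
    rw [Acts, ActsDS, ← Groth.L08.Borel.comp_conjBy, show dP k θ ≫ iT = toDS k r ≫ Red.DSmap _ θ ≫ i by
      rw [← Category.assoc, dP_toDS, Category.assoc], cancel_epi]
  have hweyl : {θ | ∃ n, ActsDS i n θ} = weyl iT := Set.ext fun θ => by simp only [weyl, hacts]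
  refine ⟨hweyl ▸ hfin, fun n θ h => ?_, (weights_finite φ).toFinset,
    fun a ha => ((Set.Finite.mem_toFinset _).1 ha).1, fun f => ?_, fun a ha => ?_⟩
  · obtain ⟨θ', -, -, h', hinv, -⟩ := exists_inv hiT ((hacts n θ).2 h)
    exact ⟨fun x y e => by simpa [← AddMonoidHom.comp_apply, hinv] using congrArg θ' e, θ', (hacts _ _).1 h', hinv⟩
  · simp only [Set.Finite.mem_toFinset]
    exact reg_iff φ i jG hφ' f
  · obtain ⟨ha0, y, hy⟩ := (Set.Finite.mem_toFinset _).1 ha
    obtain ⟨a₀, h1, θ, hθ, h2, h3⟩ := exists_reflection hG hiT hfin jG hφ ha0 hy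
    exact ⟨a₀, h1, θ, hweyl.ge hθ, h2, h3⟩

end Groth.L08.MonoRed
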