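import Groth.Agent.L08.MonoRed.Acts
import Groth.Agent.L25.MonoClosed.Main
import Groth.Agent.L19.AlgGrpBasic.Points
import Mathlib.RingTheory.Localization.FractionRing

/-!
# Morphisms out of split groups are determined by the generic fibre

The split group over a ring is the spectrum of the group algebra; over a domain it is determined by the group algebra over
the fraction field.
-/

set_option autoImplicit false
set_option linter.unusedSectionVars false
set_option linter.style.haveILetI false
set_option backward.isDefEq.respectTransparency.types false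
set_option linter.deprecated false

universe u

open CategoryTheory CategoryTheory.Limits MonoidalCategory CartesianMonoidalCategory MonObj GrpObj AlgebraicGeometry
open Groth.L25.SplitSub (bcDS bcHom char_bcDS char_DSmap)
open Groth.L25.NilAction (toBase ofBase toBase_ofBase ofBase_toBase)
open Groth.L08.Borel (toBase_comp toBase_map' toBase_injective)
open Groth.L25 (DSPts.char DSPts.pt)

noncomputable section

namespace Groth.L08.MonoRed

variable (V : Type u) [CommRing V] (M : Type) [AddCommGroup M]

/-- the group algebra -/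
abbrev GA : Type u := MonoidAlgebra V (Multiplicative M)

/-- the spectrum of the group algebra -/
abbrev XM : Over (Spec (CommRingCat.of V)) := Over.mk (Spec.map (CommRingCat.ofHom (algebraMap V (GA V M))))

/-- the monomials as functions -/
def monG : Multiplicative M →* Γ((XM V M).left, ⊤) :=
  ((Scheme.ΓSpecIso (CommRingCat.of (GA V M))).inv.hom.toMonoidHom).comp (MonoidAlgebra.of V (Multiplicative M))

/-- the group algebra presents the split group -/
def pM : XM V M ⟶ Red.DS (Spec (CommRingCat.of V)) M := DSPts.pt (monG V M)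

instance isIso_pM : IsIso (pM V M) := by
  let D := Red.DS (Spec (CommRingCat.of V)) M
  haveI : IsAffineHom D.hom := MorphismProperty.pullback_snd _ _ (inferInstanceAs (IsAffineHom (Spec.map _)))
  haveI : IsAffine D.left := isAffine_of_isAffineHom D.hom
  letI : Algebra V Γ(D.left, ⊤) := (Spec.preimage (D.left.isoSpec.inv ≫ D.hom)).hom.toAlgebra
  let e : Over.mk (Spec.map (CommRingCat.ofHom (algebraMap V Γ(D.left, ⊤)))) ≅ D :=
    Over.isoMk D.left.isoSpec.symm (Spec.map_preimage _).symm
  let f : GA V M →ₐ[V] Γ(D.left, ⊤) := MonoidAlgebra.lift V Γ(D.left, ⊤) (Multiplicative M)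
    (((Scheme.ΓSpecIso (CommRingCat.of Γ(D.left, ⊤))).hom.hom.toMonoidHom).comp (DSPts.char e.hom))
  let w : Over.mk (Spec.map (CommRingCat.ofHom (algebraMap V Γ(D.left, ⊤)))) ⟶ XM V M :=
    Over.homMk (Spec.map (CommRingCat.ofHom f.toRingHom)) (by
      show Spec.map _ ≫ Spec.map _ = Spec.map _
      rw [← Spec.map_comp, ← CommRingCat.ofHom_comp, show f.toRingHom.comp (algebraMap V (GA V M)) = algebraMap V _ from f.comp_algebraMap])
  have hw : w ≫ pM V M = e.hom := by
    refine Groth.L25.DSPts.char_injective (MonoidHom.ext fun m => ?_)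
    rw [Groth.L25.DSPts.char_comp, pM, Groth.L25.DSPts.char_pt]
    refine (congrArg (fun z => z.hom (MonoidAlgebra.of V (Multiplicative M) m))
      (Scheme.ΓSpecIso_inv_naturality (CommRingCat.ofHom f.toRingHom))).symm.trans ?_
    show (Scheme.ΓSpecIso (CommRingCat.of Γ(D.left, ⊤))).inv (f (MonoidAlgebra.of V (Multiplicative M) m)) = _
    rw [MonoidAlgebra.lift_of]
    exact Iso.hom_inv_id_apply (Scheme.ΓSpecIso (CommRingCat.of Γ(D.left, ⊤))) _
  refine ⟨e.inv ≫ w, ?_, by rw [Category.assoc, hw, Iso.inv_hom_id]⟩
  -- an endomorphism of an affine scheme fixing scalars and monomials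
  let q : XM V M ⟶ XM V M := pM V M ≫ e.inv ≫ w
  show q = 𝟙 _
  have hq : q ≫ pM V M = pM V M := by simp only [q, Category.assoc, hw, Iso.inv_hom_id, Category.comp_id]
  obtain ⟨g, hg⟩ := Spec.map_surjective q.left
  refine Over.OverMorphism.ext ?_
  show q.left = 𝟙 (Spec (CommRingCat.of (GA V M)))
  rw [← hg, ← Spec.map_id]
  congr 1
  refine CommRingCat.hom_ext (MonoidAlgebra.ringHom_ext (fun c => ?_) fun m => ?_)
  · have h1 : CommRingCat.ofHom (algebraMap V (GA V M)) ≫ g = CommRingCat.ofHom (algebraMap V (GA V M)) :=
      Spec.map_injective (by rw [Spec.map_comp, hg]; exact Over.w q)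
    exact congrArg (fun z => z.hom c) h1
  · have h2 := DFunLike.congr_fun (congrArg DSPts.char hq) m
    rw [Groth.L25.DSPts.char_comp, pM, Groth.L25.DSPts.char_pt, ← hg] at h2
    have h3 := (congrArg (fun z => z.hom (MonoidAlgebra.of V (Multiplicative M) m))
      (Scheme.ΓSpecIso_inv_naturality g)).trans h2
    exact (ConcreteCategory.bijective_of_isIso (Scheme.ΓSpecIso (CommRingCat.of (GA V M))).inv).1 h3

variable {V} {M} {G : Over (Spec (CommRingCat.of V))}

/-- a map of rings as a map of bases -/
abbrev baseMap (V K : Type u) [CommRing V] [CommRing K] [Algebra V K] :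
    Spec (CommRingCat.of K) ⟶ Spec (CommRingCat.of V) := Spec.map (CommRingCat.ofHom (algebraMap V K))

variable (V M) (K : Type u) [CommRing K] [Algebra V K]

/-- extension of scalars of the group algebra -/
abbrev scal : GA V M →+* GA K M := MonoidAlgebra.mapRingHom _ (algebraMap V K)

theorem scal_comp : (scal V M K).comp (algebraMap V (GA V M)) = (algebraMap K (GA K M)).comp (algebraMap V K) :=
  RingHom.ext fun c => by simp

/-- the group algebra over the extension maps to the one over the base -/
def genPt : Over.mk ((XM K M).hom ≫ baseMap V K) ⟶ XM V M :=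
  Over.homMk (Spec.map (CommRingCat.ofHom (scal V M K))) (by
    show Spec.map _ ≫ Spec.map _ = Spec.map _ ≫ Spec.map _
    rw [← Spec.map_comp, ← Spec.map_comp, ← CommRingCat.ofHom_comp, ← CommRingCat.ofHom_comp, scal_comp])

theorem genPt_pM : genPt V M K ≫ pM V M = toBase (baseMap V K) (pM K M ≫ (bcDS (baseMap V K)).inv) := by
  refine Groth.L25.DSPts.char_injective ?_
  rw [← char_bcDS, Category.assoc, Iso.inv_hom_id, Category.comp_id]
  refine MonoidHom.ext fun m => ?_
  rw [Groth.L25.DSPts.char_comp, pM, pM, Groth.L25.DSPts.char_pt, Groth.L25.DSPts.char_pt]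
  refine (congrArg (fun z => z.hom (MonoidAlgebra.of V (Multiplicative M) m))
    (Scheme.ΓSpecIso_inv_naturality (CommRingCat.ofHom (scal V M K)))).symm.trans ?_
  show (Scheme.ΓSpecIso (CommRingCat.of (GA K M))).inv (scal V M K (MonoidAlgebra.of V (Multiplicative M) m)) = _
  simp [monG, scal, MonoidAlgebra.of_apply]

/-- the generic fibre of a morphism out of a split group -/
theorem genPt_comp (f : Red.DS (Spec (CommRingCat.of V)) M ⟶ G) :
    genPt V M K ≫ pM V M ≫ f = toBase (baseMap V K) (pM K M ≫ bcHom (baseMap V K) f) := by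
  rw [← Category.assoc, genPt_pM, ← toBase_map', bcHom, Category.assoc]

variable {V M}

theorem scal_injective [IsDomain V] [IsFractionRing V K] : Function.Injective (scal V M K) := fun a b h => by
  refine MonoidAlgebra.ext (Finsupp.ext fun m => IsFractionRing.injective V K ?_)
  have := congrArg (fun z : GA K M => z.coeff m) h
  simpa [scal] using this

/-- **morphisms out of a split group into an affine scheme agree if they agree generically** -/
theorem ext_generic [IsDomain V] [IsFractionRing V K] [IsAffineHom G.hom]
    (f g : Red.DS (Spec (CommRingCat.of V)) M ⟶ G) (h : bcHom (baseMap V K) f = bcHom (baseMap V K) g) : f = g := by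
  haveI : IsAffine G.left := isAffine_of_isAffineHom G.hom
  rw [← cancel_epi (pM V M)]
  refine Over.OverMorphism.ext ?_
  obtain ⟨a, ha⟩ := Spec.map_surjective ((pM V M ≫ f).left ≫ G.left.isoSpec.hom)
  obtain ⟨b, hb⟩ := Spec.map_surjective ((pM V M ≫ g).left ≫ G.left.isoSpec.hom)
  have h1 : genPt V M K ≫ pM V M ≫ f = genPt V M K ≫ pM V M ≫ g := by rw [genPt_comp, genPt_comp, h]
  have h2 := congrArg (fun z => z.left ≫ G.left.isoSpec.hom) h1
  simp only [Over.comp_left, Category.assoc] at h2
  rw [← cancel_mono G.left.isoSpec.hom, ← ha, ← hb]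
  have h3 : Spec.map (CommRingCat.ofHom (scal V M K)) ≫ Spec.map a =
      Spec.map (CommRingCat.ofHom (scal V M K)) ≫ Spec.map b := by
    rw [ha, hb]
    simpa only [genPt, Over.homMk_left, Over.comp_left, Category.assoc] using h2
  rw [← Spec.map_comp, ← Spec.map_comp] at h3
  congr 1
  exact CommRingCat.hom_ext (RingHom.ext fun x =>
    scal_injective K (congrArg (fun z => z.hom x) (Spec.map_injective h3)))

end Groth.L08.MonoRed
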