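import Groth.Agent.L08.MonoRed.Unique
import Groth.Agent.L08.MonoRed.Chain
import Groth.Agent.L20.FibreScheme
import Mathlib.AlgebraicGeometry.ValuativeCriterion
import Mathlib.AlgebraicGeometry.ZariskisMainTheorem
import Mathlib.AlgebraicGeometry.Morphisms.Immersion

/-!
# Monomorphisms out of reductive groups are immersions

Valuation rings with algebraically closed fraction field see that the image is locally closed, and closed when the
target is separated; on an open containing the image as a closed subset the valuative criterion applies.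
-/

set_option autoImplicit false
set_option linter.unusedSectionVars false
set_option linter.style.haveILetI false
set_option backward.isDefEq.respectTransparency.types false
set_option maxHeartbeats 1000000
set_option linter.deprecated false

universe u

open CategoryTheory CategoryTheory.Limits MonoidalCategory CartesianMonoidalCategory MonObj GrpObj AlgebraicGeometry
open Topology

noncomputable section

namespace Groth.L08.MonoRed

section Conversion

variable {S : Scheme.{u}}

/-- a morphism from the base as a rational point of the base change -/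
def upPt {W : Scheme.{u}} (b : W ⟶ S) {X : Over S} (c : W ⟶ X.left) (hc : c ≫ X.hom = b) :
    𝟙_ (Over W) ⟶ Red.bc b X :=
  Over.homMk (pullback.lift c (𝟙 W) (by rw [hc]; exact (Category.id_comp b).symm)) (pullback.lift_snd _ _ _)

theorem upPt_left {W : Scheme.{u}} (b : W ⟶ S) {X : Over S} (c : W ⟶ X.left) (hc : c ≫ X.hom = b) :
    (upPt b c hc).left ≫ pullback.fst X.hom b = c := pullback.lift_fst _ _ _

/-- a generic point of a twofold base change -/
def upPt₂ {W W' : Scheme.{u}} (b : W ⟶ S) (ξ : W' ⟶ W) {X : Over S} (c : W' ⟶ X.left) (hc : c ≫ X.hom = ξ ≫ b) :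
    𝟙_ (Over W') ⟶ Red.bc ξ (Red.bc b X) :=
  Over.homMk (pullback.lift (pullback.lift c ξ hc) (𝟙 W') (by
    show pullback.lift c ξ hc ≫ pullback.snd X.hom b = 𝟙 W' ≫ ξ
    rw [pullback.lift_snd, Category.id_comp])) (pullback.lift_snd _ _ _)

theorem ext₂ {W W' : Scheme.{u}} (b : W ⟶ S) (ξ : W' ⟶ W) {X : Over S}
    (m n : 𝟙_ (Over W') ⟶ Red.bc ξ (Red.bc b X))
    (h : m.left ≫ pullback.fst (Red.bc b X).hom ξ ≫ pullback.fst X.hom b =
      n.left ≫ pullback.fst (Red.bc b X).hom ξ ≫ pullback.fst X.hom b) : m = n := by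
  apply Over.OverMorphism.ext
  have hs : m.left ≫ pullback.snd (Red.bc b X).hom ξ = n.left ≫ pullback.snd (Red.bc b X).hom ξ :=
    (Over.w m).trans (Over.w n).symm
  apply pullback.hom_ext
  · apply pullback.hom_ext
    · simpa only [Category.assoc] using h
    · have h1 : ∀ z : 𝟙_ (Over W') ⟶ Red.bc ξ (Red.bc b X),
          (z.left ≫ pullback.fst (Red.bc b X).hom ξ) ≫ pullback.snd X.hom b =
            (z.left ≫ pullback.snd (Red.bc b X).hom ξ) ≫ ξ := fun z => by
        rw [Category.assoc, Category.assoc]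
        exact congrArg (z.left ≫ ·) pullback.condition
      rw [h1, h1, hs]
  · exact hs

theorem upPt₂_left {W W' : Scheme.{u}} (b : W ⟶ S) (ξ : W' ⟶ W) {X : Over S} (c : W' ⟶ X.left)
    (hc : c ≫ X.hom = ξ ≫ b) :
    (upPt₂ b ξ c hc).left ≫ pullback.fst (Red.bc b X).hom ξ ≫ pullback.fst X.hom b = c := by
  show pullback.lift (pullback.lift c ξ hc) (𝟙 W') _ ≫ _ = c
  rw [pullback.lift_fst_assoc, pullback.lift_fst]

theorem upPt₂_map {W W' : Scheme.{u}} (b : W ⟶ S) (ξ : W' ⟶ W) {X Y : Over S} [GrpObj Y] (u : X ⟶ Y)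
    (c : W' ⟶ X.left) (hc : c ≫ X.hom = ξ ≫ b) (d : W ⟶ Y.left) (hd : d ≫ Y.hom = b) (h : c ≫ u.left = ξ ≫ d) :
    upPt₂ b ξ c hc ≫ (Over.pullback ξ).map ((Over.pullback b).map u) = bcPt ξ (upPt b d hd) := by
  refine ext₂ b ξ _ _ ?_
  rw [← Category.assoc (bcPt ξ (upPt b d hd)).left, bcPt_left, Category.assoc, upPt_left, ← h]
  simp only [Over.comp_left, Over.pullback_map_left, Category.assoc, pullback.lift_fst, pullback.lift_fst_assoc]
  rw [reassoc_of% (upPt₂_left b ξ c hc)]

end Conversion

/-- a point in the image over an algebraically closed field comes from a point -/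
theorem exists_point {X Y : Scheme.{u}} (f : X ⟶ Y) [LocallyOfFiniteType f] {L : Type u} [Field L] [IsAlgClosed L]
    (c : Spec (CommRingCat.of L) ⟶ Y) (h : c (IsLocalRing.closedPoint L) ∈ Set.range f) :
    ∃ g : Spec (CommRingCat.of L) ⟶ X, g ≫ f = c := by
  obtain ⟨x, hx⟩ := h
  obtain ⟨w, -, -⟩ := Scheme.Pullback.exists_preimage_pullback (f := f) (g := c) x (IsLocalRing.closedPoint L) hx
  haveI : JacobsonSpace ↥(pullback f c) := LocallyOfFiniteType.jacobsonSpace (pullback.snd f c)
  obtain ⟨w₀, -, hw₀⟩ := nonempty_inter_closedPoints (X := ↥(pullback f c)) (Z := Set.univ) ⟨w, trivial⟩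
    isOpen_univ.isLocallyClosed
  obtain ⟨σ, hσ, -⟩ := Groth.L08.Cube.exists_section_of_isClosed (pullback.snd f c) w₀ hw₀
  exact ⟨σ ≫ pullback.fst f c, by rw [Category.assoc, pullback.condition, reassoc_of% hσ]⟩

variable {S : Scheme.{u}} {G H : Over S} [GrpObj G] [GrpObj H] (hG : Red.IsReductive G)
  [LocallyOfFinitePresentation H.hom] [QuasiCompact H.hom] [QuasiSeparated H.hom] (u : G ⟶ H) [IsMonHom u] [Mono u]

include hG in
theorem props : LocallyOfFinitePresentation u.left ∧ QuasiCompact u.left := by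
  haveI := hG.1; haveI := hG.2.1
  haveI : LocallyOfFinitePresentation (u.left ≫ H.hom) := by rw [Over.w u]; infer_instance
  haveI : QuasiCompact (u.left ≫ H.hom) := by rw [Over.w u]; infer_instance
  exact ⟨Groth.L20.locallyOfFinitePresentation_of_comp u.left H.hom, QuasiCompact.of_comp u.left H.hom⟩

variable {V : Type u} [CommRing V] [IsDomain V] [ValuationRing V] {K : Type u} [Field K] [IsAlgClosed K] [Algebra V K]
  [IsFractionRing V K] (c : Spec (CommRingCat.of V) ⟶ H.left)
  (h₀ : c (PrimeSpectrum.comap (algebraMap V K) (IsLocalRing.closedPoint K)) ∈ Set.range u.left)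

include hG h₀ in
/-- an integral point of the source with the same generic image -/
theorem exists_generic_lift [HenselianLocalRing V] [IsAlgClosed (IsLocalRing.ResidueField V)] :
    ∃ γ : 𝟙_ (Over (Spec (CommRingCat.of V))) ⟶ Red.bc (c ≫ H.hom) G,
      bcPt (baseMap V K) (γ ≫ (Over.pullback (c ≫ H.hom)).map u) = bcPt (baseMap V K) (upPt (c ≫ H.hom) c rfl) := by
  haveI := (props hG u).1
  obtain ⟨g, hg⟩ := exists_point u.left (baseMap V K ≫ c) h₀
  have hgb : g ≫ G.hom = baseMap V K ≫ c ≫ H.hom := by rw [← Over.w u, reassoc_of% hg]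
  have hgh := upPt₂_map (c ≫ H.hom) (baseMap V K) u g hgb c rfl hg
  obtain ⟨γ, hγ⟩ := exists_integral_point' hG u (c ≫ H.hom) _ _ hgh
  exact ⟨γ, by rw [← bcPt_comp, hγ, hgh]⟩

include hG h₀ in
/-- **a valuation ring hitting the image at both ends factors** -/
theorem exists_fac (h₁ : c (IsLocalRing.closedPoint V) ∈ Set.range u.left) :
    ∃ γ : Spec (CommRingCat.of V) ⟶ G.left, γ ≫ u.left = c := by
  haveI := hG.1; haveI := hG.2.1; haveI := (props hG u).1
  haveI : HenselianLocalRing V := Groth.L27.NormalSepClosed.henselianLocalRing (R := V) K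
  haveI : IsAlgClosed (IsLocalRing.ResidueField V) := isAlgClosed_residue (V := V) (K := K)
  let b := c ≫ H.hom
  obtain ⟨γ, hγ⟩ := exists_generic_lift hG u c h₀
  let κ := closedMap V
  let h := upPt b c rfl
  have hκ : (κ ≫ c) (IsLocalRing.closedPoint (IsLocalRing.ResidueField V)) ∈ Set.range u.left := by
    rw [Scheme.Hom.comp_apply]
    exact (show κ (IsLocalRing.closedPoint (IsLocalRing.ResidueField V)) = IsLocalRing.closedPoint V from
      IsLocalRing.comap_closedPoint (IsLocalRing.residue V)).symm ▸ h₁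
  obtain ⟨g₁, hg₁⟩ := exists_point u.left (κ ≫ c) hκ
  have hg₁b : g₁ ≫ G.hom = κ ≫ b := by rw [← Over.w u, reassoc_of% hg₁, ]
  let x₀ := upPt₂ b κ g₁ hg₁b
  haveI : IsMonHom ((Over.pullback b).map u) := Groth.L25.MonoClosed.isMonHom_pullbackMap _ _
  haveI : IsMonHom ((Over.pullback κ).map ((Over.pullback b).map u)) :=
    Groth.L25.MonoClosed.isMonHom_pullbackMap _ _
  haveI : Smooth (Red.bc b G).hom := inferInstanceAs (Smooth (pullback.snd G.hom b))
  haveI hm : IsMonHom (Groth.L25.LimHom.cmp (b := κ) (a := b) rfl G).symm.hom :=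
    Groth.L25.LimHom.isMonHom_cmp_inv (b := κ) (a := b) rfl G
  haveI : ConnectedSpace ↥(Red.bc κ (Red.bc b G)).left :=
    (Groth.L14.RedLR.isReductiveOver_congr (Grp.mkIso' (Groth.L25.LimHom.cmp (b := κ) (a := b) rfl G).symm)
      (isReductiveOver_geom hG (κ ≫ b))).2.2.1
  have hδ : h * (γ ≫ (Over.pullback b).map u)⁻¹ = 1 := by
    refine eq_one_of_fibres (K := K) ((Over.pullback b).map u) _ ?_ (x₀ * (bcPt κ γ)⁻¹) ?_
    · rw [bcPt_mul, bcPt_inv, hγ, mul_inv_cancel]
    · rw [MonObj.mul_comp, GrpObj.inv_comp, bcPt_comp, bcPt_mul, bcPt_inv,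
        upPt₂_map b κ u g₁ hg₁b c rfl hg₁]
  refine ⟨γ.left ≫ pullback.fst G.hom b, ?_⟩
  have h2 : (γ ≫ (Over.pullback b).map u).left ≫ pullback.fst H.hom b = c := by
    rw [← mul_inv_eq_one.1 hδ]
    exact upPt_left b c rfl
  refine Eq.trans ?_ h2
  simp only [Over.comp_left, Category.assoc]
  exact congrArg (γ.left ≫ ·) (pullback.lift_fst _ _ _).symm

include hG h₀ in
/-- **over a separated target the closed end follows** -/
theorem exists_fac_separated [IsSeparated H.hom] : c (IsLocalRing.closedPoint V) ∈ Set.range u.left := by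
  haveI := hG.1; haveI := hG.2.1
  haveI : HenselianLocalRing V := Groth.L27.NormalSepClosed.henselianLocalRing (R := V) K
  haveI : IsAlgClosed (IsLocalRing.ResidueField V) := isAlgClosed_residue (V := V) (K := K)
  obtain ⟨γ, hγ⟩ := exists_generic_lift hG u c h₀
  haveI := isDominant_baseMap (V := V) (K := K)
  let γ' : Spec (CommRingCat.of V) ⟶ G.left := γ.left ≫ pullback.fst G.hom (c ≫ H.hom)
  have h1 : baseMap V K ≫ γ' ≫ u.left = baseMap V K ≫ c := by
    have := congrArg (fun z => z.left ≫ pullback.fst (Red.bc (c ≫ H.hom) H).hom (baseMap V K) ≫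
      pullback.fst H.hom (c ≫ H.hom)) hγ
    simp only [← Category.assoc, bcPt_left] at this
    simpa only [γ', Category.assoc, upPt_left, Over.comp_left, Over.pullback_map_left, pullback.lift_fst] using this
  have hwG : γ' ≫ G.hom = c ≫ H.hom := by
    rw [Category.assoc, pullback.condition, ← Category.assoc]
    exact (congrArg (· ≫ c ≫ H.hom) (Over.w γ)).trans (Category.id_comp _)
  have h2 : γ' ≫ u.left = c := ext_of_isDominant_of_isSeparated H.hom (by
    rw [Category.assoc, Over.w u, hwG]) (baseMap V K) h1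
  exact ⟨γ' (IsLocalRing.closedPoint V), by rw [← Scheme.Hom.comp_apply, h2]⟩

end Groth.L08.MonoRed
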