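import Groth.Agent.L08.MonoRed.Global

/-!
# A monomorphism out of a reductive group is an immersion
-/

set_option autoImplicit false
set_option linter.unusedSectionVars false
set_option linter.style.haveILetI false
set_option backward.isDefEq.respectTransparency.types false
set_option maxHeartbeats 1000000
set_option linter.deprecated false

universe u

open CategoryTheory CategoryTheory.Limits MonoidalCategory CartesianMonoidalCategory MonObj GrpObj AlgebraicGeometry
open Topology IsLocalRing

noncomputable section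

namespace Groth.L08.MonoRed

/-- the point of the closed point under the map of spectra of a local homomorphism -/
theorem apply_closedPoint {A B : Type u} [CommRing A] [IsLocalRing A] [CommRing B] [IsLocalRing B] (f : A →+* B)
    [IsLocalHom f] : Spec.map (CommRingCat.ofHom f) (closedPoint B) = closedPoint A :=
  IsLocalRing.comap_closedPoint f

/-- a valuation ring of an algebraic closure extending a given one -/
theorem exists_extension (R K : Type u) [CommRing R] [IsDomain R] [ValuationRing R] [Field K] [Algebra R K]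
    [IsFractionRing R K] :
    ∃ (Ω : Type u) (_ : Field Ω) (_ : IsAlgClosed Ω) (_ : Algebra K Ω) (V : ValuationSubring Ω) (j : R →+* V),
      IsLocalHom j ∧ Flat (Spec.map (CommRingCat.ofHom j)) ∧ Surjective (Spec.map (CommRingCat.ofHom j)) ∧
        (∀ r, (j r : Ω) = algebraMap K Ω (algebraMap R K r)) ∧
        ∀ x : K, algebraMap K Ω x ∈ V → ∃ r, algebraMap R K r = x := by
  let Ω := AlgebraicClosure K
  let f : R →+* Ω := (algebraMap K Ω).comp (algebraMap R K)
  obtain ⟨V, hV, hloc⟩ := IsLocalRing.exists_factor_valuationRing f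
  let j : R →+* V := f.codRestrict V.toSubring hV
  haveI : IsLocalHom j := hloc
  have hinj : Function.Injective j := fun a b h =>
    IsFractionRing.injective R K ((algebraMap K Ω).injective (congrArg (fun z : V => (z : Ω)) h))
  letI := j.toAlgebra
  haveI : IsLocalHom (algebraMap R V) := hloc
  haveI : Module.IsTorsionFree R V := Module.isTorsionFree_iff_smul_eq_zero.2 fun r v h => by
    rw [Algebra.smul_def] at h
    rcases mul_eq_zero.1 h with h | h
    · exact Or.inl (hinj (h.trans (map_zero j).symm))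
    · exact Or.inr h
  haveI : Module.Flat R V := Module.Flat.flat_iff_torsion_eq_bot_of_isBezout.2
    (Submodule.isTorsionFree_iff_torsion_eq_bot.1 inferInstance)
  haveI : Module.FaithfullyFlat R V := Module.FaithfullyFlat.of_flat_of_isLocalHom
  refine ⟨Ω, inferInstance, inferInstance, inferInstance, V, j, inferInstance,
    (HasRingHomProperty.Spec_iff (P := @Flat)).2 (RingHom.flat_algebraMap_iff.2 inferInstance),
    ⟨PrimeSpectrum.comap_surjective_of_faithfullyFlat⟩, fun r => rfl, fun x hx => ?_⟩
  by_contra hne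
  have hx0 : x ≠ 0 := fun h => hne ⟨0, by rw [h, map_zero]⟩
  obtain ⟨r, hr⟩ : ∃ r, algebraMap R K r = x⁻¹ :=
    ((ValuationRing.isInteger_or_isInteger R x).resolve_left hne)
  have hm : ¬ IsUnit r := fun hu => hne ⟨↑hu.unit⁻¹, by
    have h1 : algebraMap R K r * algebraMap R K ↑hu.unit⁻¹ = 1 := by rw [← map_mul, IsUnit.mul_val_inv, map_one]
    rw [hr] at h1
    exact (inv_mul_eq_one₀ hx0).1 h1 |>.symm⟩
  refine hm (isUnit_of_map_unit j r (IsUnit.of_mul_eq_one (⟨_, hx⟩ : V) (Subtype.ext ?_)))
  show algebraMap K Ω (algebraMap R K r) * algebraMap K Ω x = 1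
  rw [← map_mul, hr, inv_mul_cancel₀ hx0, map_one]

/-- complements of locally constructible sets -/
theorem isLocallyConstructible_compl {X : Scheme.{u}} {s : Set X} (hs : IsLocallyConstructible s) :
    IsLocallyConstructible sᶜ := fun x => by
  obtain ⟨U, hU, hUo, hc⟩ := hs x
  exact ⟨U, hU, hUo, by rw [Set.preimage_compl]; exact hc.compl⟩

variable {S : Scheme.{u}} {G H : Over S} [GrpObj G] [GrpObj H] (hG : Red.IsReductive G)
  [LocallyOfFinitePresentation H.hom] [QuasiCompact H.hom] [QuasiSeparated H.hom] (u : G ⟶ H) [IsMonHom u] [Mono u]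

include hG in
/-- the image is locally constructible -/
theorem isLocallyConstructible_range : IsLocallyConstructible (Set.range u.left) := by
  haveI := (props hG u).1; haveI := (props hG u).2
  rw [← Set.image_univ]
  exact u.left.isLocallyConstructible_image IsConstructible.univ.isLocallyConstructible

include hG in
/-- **over a separated target the image is closed** -/
theorem isClosed_range [IsSeparated H.hom] : IsClosed (Set.range u.left) := by
  refine isClosed_iff_clusterPt.2 fun y hy => ?_
  obtain ⟨ω₀, ⟨hgen₀, -⟩, hs⟩ := exists_specializes_of_mem_closure (isLocallyConstructible_range hG u) isClosed_univ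
    (x := y) (by rwa [Set.inter_univ, mem_closure_iff_clusterPt])
  obtain ⟨Ω, _, _, V, c, h0, -, h2⟩ := exists_chain (x₀ := ω₀) hs (specializes_refl y)
  exact h2 ▸ exists_fac_separated hG u (K := Ω) c (h0.symm ▸ hgen₀)

include hG in
/-- **the image is closed in an open set** -/
theorem exists_open :
    ∃ U : H.left.Opens, Set.range u.left ⊆ (U : Set H.left) ∧
      (U : Set H.left) ∩ closure (Set.range u.left) ⊆ Set.range u.left := by
  have hlc := isLocallyConstructible_range hG u
  refine ⟨⟨(closure ((Set.range u.left)ᶜ ∩ closure (Set.range u.left)))ᶜ, isClosed_closure.isOpen_compl⟩,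
    fun y hy hyc => ?_, fun y ⟨hy, hy'⟩ => by_contra fun h => hy (subset_closure ⟨h, hy'⟩)⟩
  obtain ⟨y', ⟨hy', hy'c⟩, hs'⟩ := exists_specializes_of_mem_closure (isLocallyConstructible_compl hlc) isClosed_closure hyc
  obtain ⟨ω₀, ⟨hgen₀, -⟩, hs⟩ := exists_specializes_of_mem_closure hlc isClosed_univ
    (x := y') (by rwa [Set.inter_univ])
  obtain ⟨Ω, _, _, V, c, h0, ⟨P, hP⟩, h2⟩ := exists_chain (x₀ := ω₀) hs hs'
  obtain ⟨γ, hγ⟩ := exists_fac hG u (K := Ω) c (h0.symm ▸ hgen₀) (h2.symm ▸ hy)
  exact hy' ⟨γ P, by rw [← Scheme.Hom.comp_apply, hγ, hP]⟩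

include hG in
/-- **lifting over any valuation ring** -/
theorem exists_lift {R K : Type u} [CommRing R] [IsDomain R] [ValuationRing R] [Field K] [Algebra R K]
    [IsFractionRing R K] (i₁ : Spec (CommRingCat.of K) ⟶ G.left) (i₂ : Spec (CommRingCat.of R) ⟶ H.left)
    (hcomm : i₁ ≫ u.left = Spec.map (CommRingCat.ofHom (algebraMap R K)) ≫ i₂)
    (h1 : i₂ (closedPoint R) ∈ Set.range u.left) :
    ∃ l : Spec (CommRingCat.of R) ⟶ G.left,
      Spec.map (CommRingCat.ofHom (algebraMap R K)) ≫ l = i₁ ∧ l ≫ u.left = i₂ := by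
  haveI := hG.1
  obtain ⟨Ω, _, _, _, V, j, hj, hjf, hjs, hjr, hVK⟩ := exists_extension R K
  haveI := hj; haveI := hjf; haveI := hjs
  let c := Spec.map (CommRingCat.ofHom j) ≫ i₂
  let θ := Spec.map (CommRingCat.ofHom (algebraMap K Ω))
  have hθ : baseMap V Ω ≫ c = θ ≫ i₁ ≫ u.left := by
    rw [hcomm, ← Category.assoc, ← Category.assoc, ← Spec.map_comp, ← Spec.map_comp]
    congr 2
    exact CommRingCat.hom_ext (RingHom.ext hjr)
  have h0 : c (PrimeSpectrum.comap (algebraMap V Ω) (closedPoint Ω)) ∈ Set.range u.left :=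
    ⟨i₁ (θ (closedPoint Ω)), by
      rw [← Scheme.Hom.comp_apply, ← Scheme.Hom.comp_apply, ← hθ]
      rfl⟩
  obtain ⟨γ, hγ⟩ := exists_fac hG u (K := Ω) c h0 (by
    rw [Scheme.Hom.comp_apply, apply_closedPoint j]
    exact h1)
  have hγθ : baseMap V Ω ≫ γ = θ ≫ i₁ := by
    rw [← cancel_mono u.left, Category.assoc, hγ, hθ, Category.assoc]
  -- descent to the valuation ring, in the affine pullback of the source
  let bR := i₂ ≫ H.hom
  haveI : IsAffineHom (pullback.snd G.hom bR) :=
    MorphismProperty.pullback_snd (P := @IsAffineHom) _ _ inferInstance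
  haveI : IsAffine (pullback G.hom bR) := isAffine_of_isAffineHom (pullback.snd G.hom bR)
  let e := (pullback G.hom bR).isoSpec
  let p₁ : Spec (CommRingCat.of K) ⟶ pullback G.hom bR :=
    pullback.lift i₁ (Spec.map (CommRingCat.ofHom (algebraMap R K))) (by
      rw [← Over.w u, reassoc_of% hcomm])
  let p₂ : Spec (CommRingCat.of V) ⟶ pullback G.hom bR :=
    pullback.lift γ (Spec.map (CommRingCat.ofHom j)) (by rw [← Over.w u, reassoc_of% hγ]; simp [c, bR])
  have hp : θ ≫ p₁ = baseMap V Ω ≫ p₂ := by
    apply pullback.hom_ext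
    · simp only [p₁, p₂, Category.assoc, pullback.lift_fst, hγθ]
    · simp only [p₁, p₂, Category.assoc, pullback.lift_snd, θ, ← Spec.map_comp]
      congr 1
      exact CommRingCat.hom_ext (RingHom.ext fun r => (hjr r).symm)
  obtain ⟨a₁, ha₁⟩ := Spec.map_surjective (p₁ ≫ e.hom)
  obtain ⟨a₂, ha₂⟩ := Spec.map_surjective (p₂ ≫ e.hom)
  have ha : ∀ x, algebraMap K Ω (a₁.hom x) = (a₂.hom x : Ω) := by
    have h2 : Spec.map (a₁ ≫ CommRingCat.ofHom (algebraMap K Ω)) =
        Spec.map (a₂ ≫ CommRingCat.ofHom (algebraMap V Ω)) := by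
      rw [Spec.map_comp, Spec.map_comp, ha₁, ha₂, ← Category.assoc, ← Category.assoc]
      exact congrArg (· ≫ e.hom) hp
    exact fun x => congrArg (fun z => z.hom x) (Spec.map_injective h2)
  choose al hal using fun x => hVK (a₁.hom x) (by rw [ha x]; exact (a₂.hom x).2)
  have hinjR := IsFractionRing.injective R K
  let a : Γ(pullback G.hom bR, ⊤) →+* R :=
    { toFun := al
      map_one' := hinjR (by rw [hal, map_one, map_one])
      map_mul' := fun x y => hinjR (by rw [hal, map_mul, map_mul, hal, hal])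
      map_zero' := hinjR (by rw [hal, map_zero, map_zero])
      map_add' := fun x y => hinjR (by rw [hal, map_add, map_add, hal, hal]) }
  let l := Spec.map (CommRingCat.ofHom a) ≫ e.inv ≫ pullback.fst G.hom bR
  have hl₁ : Spec.map (CommRingCat.ofHom (algebraMap R K)) ≫ l = i₁ := by
    have h3 : Spec.map (CommRingCat.ofHom (algebraMap R K)) ≫ Spec.map (CommRingCat.ofHom a) = p₁ ≫ e.hom := by
      rw [← Spec.map_comp, ← ha₁]
      exact congrArg Spec.map (CommRingCat.hom_ext (RingHom.ext hal))
    rw [reassoc_of% h3, Iso.hom_inv_id_assoc]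
    exact pullback.lift_fst _ _ _
  have hl₂ : Spec.map (CommRingCat.ofHom j) ≫ l = γ := by
    have h3 : Spec.map (CommRingCat.ofHom j) ≫ Spec.map (CommRingCat.ofHom a) = p₂ ≫ e.hom := by
      rw [← Spec.map_comp, ← ha₂]
      refine congrArg Spec.map (CommRingCat.hom_ext (RingHom.ext fun x => Subtype.ext ?_))
      show (j (al x) : Ω) = _
      rw [hjr, hal, ha]
    rw [reassoc_of% h3, Iso.hom_inv_id_assoc]
    exact pullback.lift_fst _ _ _
  refine ⟨l, hl₁, ?_⟩
  haveI : Epi (Spec.map (CommRingCat.ofHom j)) := Flat.epi_of_flat_of_surjective _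
  rw [← cancel_epi (Spec.map (CommRingCat.ofHom j)), ← Category.assoc, hl₂, hγ]

include hG in
/-- **a monomorphism from a reductive group is an immersion** -/
theorem isImmersion_of_mono : IsImmersion u.left ∧ (IsSeparated H.hom → IsClosedImmersion u.left) := by
  haveI := hG.1; haveI := hG.2.1
  haveI := (props hG u).1; haveI := (props hG u).2
  have key : ∀ U : H.left.Opens, Set.range u.left ⊆ (U : Set H.left) →
      (U : Set H.left) ∩ closure (Set.range u.left) ⊆ Set.range u.left → IsImmersion u.left := by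
    intro U hU hU'
    let u' : G.left ⟶ U.toScheme := IsOpenImmersion.lift U.ι u.left (by rwa [Scheme.Opens.range_ι])
    have hu' : u' ≫ U.ι = u.left := IsOpenImmersion.lift_fac _ _ _
    haveI : Mono (u' ≫ U.ι) := by rw [hu']; infer_instance
    haveI : Mono u' := mono_of_mono u' U.ι
    haveI : QuasiCompact (u' ≫ U.ι) := by rw [hu']; infer_instance
    haveI : QuasiCompact u' := QuasiCompact.of_comp u' U.ι
    haveI : LocallyOfFiniteType (u' ≫ U.ι) := by rw [hu']; infer_instance
    haveI : LocallyOfFiniteType u' := locallyOfFiniteType_of_comp u' U.ι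
    have hex : ValuativeCriterion.Existence u' := fun sq => by
      have hcomm : sq.i₁ ≫ u.left = Spec.map (CommRingCat.ofHom (algebraMap sq.R sq.K)) ≫ sq.i₂ ≫ U.ι := by
        rw [← hu', reassoc_of% sq.commSq.w]
      obtain ⟨l, hl₁, hl₂⟩ := exists_lift hG u sq.i₁ (sq.i₂ ≫ U.ι) hcomm (hU' ⟨(sq.i₂ (closedPoint sq.R)).2, by
        have hgen : (sq.i₂ ≫ U.ι) (PrimeSpectrum.comap (algebraMap sq.R sq.K) (closedPoint sq.K)) ∈
            Set.range u.left := ⟨sq.i₁ (closedPoint sq.K), by
              rw [← Scheme.Hom.comp_apply, hcomm]; rfl⟩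
        exact ((IsLocalRing.specializes_closedPoint _).map (sq.i₂ ≫ U.ι).continuous).mem_closed isClosed_closure
          (subset_closure hgen)⟩)
      exact ⟨⟨⟨l, hl₁, by rw [← cancel_mono U.ι, Category.assoc, hu', hl₂]⟩⟩⟩
    haveI : UniversallyClosed u' := UniversallyClosed.of_valuativeCriterion _ hex
    haveI : IsProper u' := ⟨⟩
    haveI : IsClosedImmersion u' := (IsClosedImmersion.iff_isProper_and_mono u').2 ⟨inferInstance, inferInstance⟩
    rw [← hu']
    infer_instance
  obtain ⟨U, hU, hU'⟩ := exists_open hG u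
  haveI := key U hU hU'
  refine ⟨inferInstance, fun hs => ?_⟩
  haveI := hs
  exact IsClosedImmersion.of_isPreimmersion _ (isClosed_range hG u)

end Groth.L08.MonoRed
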