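import Groth.Agent.L06.CoxeterElt.Comm
import Groth.Agent.L25.SplitSub.Map
import Groth.Agent.L25.Bridge.TorsionLift

/-!
# The two presentations of a split torus over a field

Characters of points identify `Red.DS` with the spectrum of the Laurent algebra, compatibly with maps of characters.
-/

set_option autoImplicit false
set_option linter.unusedSectionVars false
set_option linter.style.haveILetI false
set_option backward.isDefEq.respectTransparency.types false

universe u

open CategoryTheory CategoryTheory.Limits MonoidalCategory CartesianMonoidalCategory MonObj AlgebraicGeometry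
open WithConv
open Groth.L25.Bridge (P)
open Groth.L08.TorusQuot (sp sp_left toPt ofPt toPt_ofPt toPt_post post SP spA)
open Groth.L06.CoxeterElt (TB TT dP md)
open Groth.L25

noncomputable section

namespace Groth.L08.MonoRed

variable (k : Type u) [Field k] {r r' : ℕ}

/-- the monomials of the Laurent algebra as functions on the torus -/
def monFn (r : ℕ) : Multiplicative (Fin r → ℤ) →* Γ((TT k r).left, ⊤) :=
  ((Scheme.ΓSpecIso (CommRingCat.of (TB k r))).inv.hom.toMonoidHom).comp (AddMonoidAlgebra.of k (Fin r → ℤ))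

/-- from the Laurent presentation to the diagonalisable group -/
def toDS (r : ℕ) : TT k r ⟶ Red.DS (Spec (CommRingCat.of k)) (Fin r → ℤ) := DSPts.pt (monFn k r)

/-- the character of a point with values in an algebra -/
theorem char_toDS {D : Type u} [CommRing D] [Algebra k D] (f : Groth.L08.TorusQuot.Pt k (TB k r) D)
    (m : Multiplicative (Fin r → ℤ)) :
    DSPts.char (toPt f ≫ toDS k r) m =
      (Scheme.ΓSpecIso (CommRingCat.of D)).inv (f.ofConv (AddMonoidAlgebra.single m.toAdd 1)) := by
  rw [Groth.L25.DSPts.char_comp, toDS, Groth.L25.DSPts.char_pt]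
  exact (congrArg (fun z => z.hom (AddMonoidAlgebra.single m.toAdd (1 : k)))
    (Scheme.ΓSpecIso_inv_naturality (CommRingCat.ofHom f.ofConv.toRingHom))).symm

instance isMonHom_toDS (r : ℕ) : IsMonHom (toDS k r) := by
  refine Groth.L25.Bridge.isMonHom_of_mul (toDS k r) fun X x y => ?_
  refine Groth.L25.Dyn.hom_ext_spec _ _ fun R _ _ v => ?_
  simp only [MonObj.comp_mul, ← Category.assoc]
  rw [← toPt_ofPt (v ≫ x), ← toPt_ofPt (v ≫ y)]
  generalize ofPt (v ≫ x) = f, ofPt (v ≫ y) = g
  rw [toPt, toPt, ← map_mul]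
  refine Groth.L25.DSPts.char_injective (MonoidHom.ext fun m => ?_)
  rw [Groth.L25.DSPts.char_mul, MonoidHom.mul_apply]
  show DSPts.char (toPt (f * g) ≫ toDS k r) m = DSPts.char (toPt f ≫ toDS k r) m * DSPts.char (toPt g ≫ toDS k r) m
  rw [char_toDS, char_toDS, char_toDS]
  refine Eq.trans ?_ (map_mul (Scheme.ΓSpecIso (CommRingCat.of R)).inv.hom _ _)
  congr 1
  rw [AlgHom.convMul_apply, AddMonoidAlgebra.comul_single, CommSemiring.comul_apply, TensorProduct.map_tmul,
    Algebra.TensorProduct.lift_tmul]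
  rfl

/-- naturality in the map of characters -/
theorem dP_toDS (p : (Fin r → ℤ) →+ (Fin r' → ℤ)) :
    dP k p ≫ toDS k r = toDS k r' ≫ Red.DSmap (Spec (CommRingCat.of k)) p := by
  refine Groth.L25.DSPts.char_injective (MonoidHom.ext fun m => ?_)
  rw [Groth.L25.SplitSub.char_DSmap, Groth.L25.DSPts.char_comp, toDS, toDS, Groth.L25.DSPts.char_pt,
    Groth.L25.DSPts.char_pt, sp_left]
  refine (congrArg (fun z => z.hom (AddMonoidAlgebra.single m.toAdd (1 : k)))
    (Scheme.ΓSpecIso_inv_naturality (CommRingCat.ofHom ((md k p : TB k r →ₐc[k] TB k r') : TB k r →+* TB k r')))).symm.trans ?_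
  show (Scheme.ΓSpecIso (CommRingCat.of (TB k r'))).inv (md k p (AddMonoidAlgebra.single m.toAdd 1)) = _
  rw [AddMonoidAlgebra.mapDomainBialgHom_single]
  rfl

instance isIso_toDS (r : ℕ) : IsIso (toDS k r) := by
  let D := Red.DS (Spec (CommRingCat.of k)) (Fin r → ℤ)
  haveI : IsAffineHom D.hom := MorphismProperty.pullback_snd _ _ (inferInstanceAs (IsAffineHom (Spec.map _)))
  haveI : IsAffine D.left := isAffine_of_isAffineHom D.hom
  letI : Algebra k Γ(D.left, ⊤) := (Spec.preimage (D.left.isoSpec.inv ≫ D.hom)).hom.toAlgebra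
  let e : SP k Γ(D.left, ⊤) ≅ D := Over.isoMk D.left.isoSpec.symm (Spec.map_preimage _).symm
  let f : Groth.L08.TorusQuot.Pt k (TB k r) Γ(D.left, ⊤) :=
    toConv (AddMonoidAlgebra.lift k Γ(D.left, ⊤) (Fin r → ℤ)
      (((Scheme.ΓSpecIso (CommRingCat.of Γ(D.left, ⊤))).hom.hom.toMonoidHom).comp (DSPts.char e.hom)))
  have hf : toPt f ≫ toDS k r = e.hom := by
    refine Groth.L25.DSPts.char_injective (MonoidHom.ext fun m => ?_)
    rw [char_toDS, WithConv.ofConv_toConv, AddMonoidAlgebra.lift_single, one_smul]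
    exact Iso.hom_inv_id_apply (Scheme.ΓSpecIso (CommRingCat.of Γ(D.left, ⊤))) _
  have hmono : Mono (toDS k r) := ⟨fun {X} a b h => by
    refine Groth.L25.Dyn.hom_ext_spec _ _ fun R _ _ v => ?_
    rw [← toPt_ofPt (v ≫ a), ← toPt_ofPt (v ≫ b)]
    refine congrArg toPt (WithConv.ext (AddMonoidAlgebra.algHom_ext (fun m => ?_) (Algebra.ext_id _ _ _)))
    have h2 := congrArg (fun z => DSPts.char z (Multiplicative.ofAdd m)) (congrArg (v ≫ ·) h)
    simp only [← Category.assoc] at h2
    rw [← toPt_ofPt (v ≫ a), ← toPt_ofPt (v ≫ b), char_toDS, char_toDS] at h2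
    exact (ConcreteCategory.bijective_of_isIso (Scheme.ΓSpecIso (CommRingCat.of R)).inv).1 h2⟩
  haveI : IsSplitEpi (toDS k r) := ⟨⟨⟨e.inv ≫ toPt f, by rw [Category.assoc, hf, Iso.inv_hom_id]⟩⟩⟩
  haveI := hmono
  exact isIso_of_mono_of_isSplitEpi _

end Groth.L08.MonoRed
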