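import Groth.Agent.L08.MonoRed.Acts
import Groth.Agent.L08.MonoRed.Chamber
import Groth.Agent.L01.Unip.Affine
import Groth.Agent.L05.Hensel.SecLift
import Groth.Agent.L08.Borel.CentBorel
import Groth.Agent.L08.Borel.SmoothDim
import Groth.Agent.L08.TorusWeights.Reductive
import Groth.Agent.L19.AlgGrpBasic.LargestNormal
import Groth.Agent.L25.Dyn.CentConn
import Groth.Agent.L25.Locus.Torus
import Groth.Agent.L25.MonoClosed.Main
import Mathlib.RingTheory.Henselian

/-!
# Points normalizing a split maximal torus over the fraction field of a henselian domain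

Regularity of a cocharacter does not depend on the fibre, and the action of the generic normalizer on the torus is
realised by integral points.
-/

set_option autoImplicit false
set_option linter.unusedSectionVars false
set_option linter.style.haveILetI false
set_option backward.isDefEq.respectTransparency.types false
set_option maxHeartbeats 1000000
set_option linter.deprecated false

universe u

open CategoryTheory CategoryTheory.Limits MonoidalCategory CartesianMonoidalCategory MonObj GrpObj AlgebraicGeometry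
open Groth.L25.SplitSub (bcDS bcHom char_bcDS char_DSmap isMonHom_bcHom)
open Groth.L25.NilAction (toBase ofBase toBase_ofBase ofBase_toBase toBase_mul toBase_one ofBase_comp)
open Groth.L08.Borel (toBase_comp toBase_map' toBase_injective)

noncomputable section

namespace Groth.L08.MonoRed

section Fibre

variable {S : Scheme.{u}} {G : Over S} [GrpObj G] [IsAffineHom G.hom] [Smooth G.hom] {r : ℕ}
  (i : Red.DS S (Fin r → ℤ) ⟶ G) [IsMonHom i] {L : Type u} [Field L] [IsAlgClosed L]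
  (b : Spec (CommRingCat.of L) ⟶ S)

/-- regularity in a geometric fibre is an equality of dimensions -/
theorem reg_iff_dim (hb : Red.IsReductiveOver L (Red.bc b G)) (hT : AGF.IsMaxTorus (bcHom b i))
    (f : (Fin r → ℤ) →+ ℤ) {Z : Over S} [GrpObj Z] [Smooth Z.hom] (z : Z ⟶ G) [IsClosedImmersion z.left]
    (hz : Red.IsCentralizerOf (Red.DSmap S (one f) ≫ i) z) :
    Reg (bcHom b i) f ↔
      topologicalKrullDim ↥(Red.bc b (Red.DS S (Fin r → ℤ))).left = topologicalKrullDim ↥(Red.bc b Z).left := by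
  haveI := hb.1; haveI := hb.2.1; haveI := hb.2.2.1; haveI := hT.1; haveI := hT.2.1
  haveI : IsMonHom z := hz.1
  haveI : Mono z := hz.2.1
  let zb := (Over.pullback b).map z
  haveI : IsClosedImmersion zb.left :=
    MorphismProperty.of_isPullback (Groth.L08.Borel.isPullback_bc_map' b z).flip inferInstance
  haveI : Smooth (Red.bc b Z).hom := inferInstanceAs (Smooth (pullback.snd Z.hom b))
  haveI : IsMonHom zb := Groth.L25.MonoClosed.isMonHom_pullbackMap _ _
  haveI : Mono zb := Functor.map_mono _ _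
  haveI hu : IsMonHom (Red.DSmap S (one f) ≫ i) := inferInstance
  haveI : IsMonHom ((Over.pullback b).map (Red.DSmap S (one f) ≫ i)) :=
    @Groth.L25.MonoClosed.isMonHom_pullbackMap _ _ b _ _ _ _ (Red.DSmap S (one f) ≫ i) hu
  have hzb := Groth.L08.Borel.isCentralizerOf_bc b hz
  have hDS : Red.IsTorus (Red.DS S (Fin 1 → ℤ)) := Groth.L01.Unip.isTorus_DS S 1
  haveI : ConnectedSpace (Red.bc b Z).left :=
    Groth.L25.Dyn.connectedSpace_centralizer _ _ _ (Groth.L25.Locus.isTorus_bc hDS b) _ zb hzb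
  have hcomp : ∀ {Y : Over (Spec (CommRingCat.of L))} (g : Y ⟶ Red.bc b G),
      CommP ((Over.pullback b).map (Red.DSmap S (one f) ≫ i)) g ↔
        CommP (Red.DSmap _ (one f) ≫ bcHom b i) g := fun g => by
    rw [← bcHom_comp, bcHom, commP_comp_iff]
  obtain ⟨t₀, ht₀⟩ := (hzb.2.2 _ (bcHom b i)).2 ((hcomp _).2 ((commP_self (bcHom b i)).comp_left _))
  have hhomeo : topologicalKrullDim ↥(Red.bc b (Red.DS S (Fin r → ℤ))).left =
      topologicalKrullDim ↥(Red.DS (Spec (CommRingCat.of L)) (Fin r → ℤ)).left :=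
    IsHomeomorph.topologicalKrullDim_eq _
      (Scheme.homeoOfIso ((Over.forget _).mapIso (bcDS b))).isHomeomorph
  rw [hhomeo]
  constructor
  · intro hreg
    have hcomm : CommP (bcHom b i) zb := hreg _ _ ((hcomp zb).1 ((hzb.2.2 _ zb).1 ⟨𝟙 _, Category.id_comp _⟩))
    obtain ⟨s, hs⟩ := ((Groth.L08.TorusWeights.selfCentral_of_reductiveOver hb hT).2.2 _ zb).2 hcomm
    let e : Red.DS (Spec (CommRingCat.of L)) (Fin r → ℤ) ≅ Red.bc b Z :=
      ⟨t₀, s, by rw [← cancel_mono (bcHom b i), Category.assoc, hs, ht₀, Category.id_comp],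
        by rw [← cancel_mono zb, Category.assoc, ht₀, hs, Category.id_comp]⟩
    exact IsHomeomorph.topologicalKrullDim_eq _ (Scheme.homeoOfIso ((Over.forget _).mapIso e)).isHomeomorph
  · intro hd Y g hg
    haveI : QuasiCompact (Red.bc b G).hom := quasiCompact_of_compactSpace _
    haveI : IsClosedImmersion (t₀.left ≫ zb.left) := by
      rw [← Over.comp_left, ht₀]
      exact Groth.L25.MonoClosed.isClosedImmersion_of_mono
        (Groth.L25.Locus.isMultTypeFT_of_isTorus (Groth.L01.Unip.isTorus_DS _ r)) (bcHom b i)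
    haveI : IsClosedImmersion t₀.left := IsClosedImmersion.of_comp t₀.left zb.left
    haveI := Groth.L19.AlgGrpBasic.isIso_of_dim_eq t₀ hd
    obtain ⟨v, rfl⟩ := (hzb.2.2 Y g).2 ((hcomp g).2 hg)
    have e : zb = inv t₀ ≫ bcHom b i := by rw [← ht₀, IsIso.inv_hom_id_assoc]
    show CommP (bcHom b i) (v ≫ zb)
    rw [e, ← Category.assoc]
    exact (commP_self (bcHom b i)).comp_right (v ≫ inv t₀)

end Fibre

section Local

variable {V : Type u} [CommRing V] [IsLocalRing V] {G : Over (Spec (CommRingCat.of V))} [GrpObj G]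
  [IsAffineHom G.hom] [Smooth G.hom] {r : ℕ} (i : Red.DS (Spec (CommRingCat.of V)) (Fin r → ℤ) ⟶ G) [IsMonHom i]

/-- an open set containing the closed point contains everything -/
theorem mem_of_closedPoint {U : (Spec (CommRingCat.of V)).Opens} (h : IsLocalRing.closedPoint V ∈ U)
    (x : PrimeSpectrum V) : x ∈ U :=
  (IsLocalRing.specializes_closedPoint x).mem_open U.2 h

/-- regularity is the same in all geometric fibres over a local base -/
theorem reg_transfer {L L' : Type u} [Field L] [IsAlgClosed L] [Field L'] [IsAlgClosed L']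
    (b : Spec (CommRingCat.of L) ⟶ Spec (CommRingCat.of V))
    (b' : Spec (CommRingCat.of L') ⟶ Spec (CommRingCat.of V))
    (hb : Red.IsReductiveOver L (Red.bc b G)) (hb' : Red.IsReductiveOver L' (Red.bc b' G))
    (hT : AGF.IsMaxTorus (bcHom b i)) (hT' : AGF.IsMaxTorus (bcHom b' i))
    (f : (Fin r → ℤ) →+ ℤ) : Reg (bcHom b i) f ↔ Reg (bcHom b' i) f := by
  haveI : IsSeparated G.hom := inferInstance
  obtain ⟨Z, gZ, z, hz, hzc, hZ⟩ := Groth.L25.Locus.exists_smooth_centralizer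
    (Groth.L25.Locus.locally_of_multTypeFT
      (Groth.L25.Locus.isMultTypeFT_of_isTorus (Groth.L01.Unip.isTorus_DS (Spec (CommRingCat.of V)) 1)))
    (Red.DSmap (Spec (CommRingCat.of V)) (one f) ≫ i)
  haveI : Smooth (Red.DS (Spec (CommRingCat.of V)) (Fin r → ℤ)).hom :=
    Groth.L08.Borel.smooth_of_isTorus (Groth.L01.Unip.isTorus_DS _ r)
  obtain ⟨U₁, n, h₁, hn⟩ := Groth.L08.Borel.exists_open_fibre_dim (Red.DS (Spec (CommRingCat.of V)) (Fin r → ℤ))
    (IsLocalRing.closedPoint V)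
  obtain ⟨U₂, m, h₂, hm⟩ := Groth.L08.Borel.exists_open_fibre_dim Z (IsLocalRing.closedPoint V)
  rw [reg_iff_dim i b hb hT f z hz, reg_iff_dim i b' hb' hT' f z hz,
    hn _ b (mem_of_closedPoint h₁ _), hn _ b' (mem_of_closedPoint h₁ _),
    hm _ b (mem_of_closedPoint h₂ _), hm _ b' (mem_of_closedPoint h₂ _)]

end Local

section Hens

variable {V : Type u} [CommRing V] [HenselianLocalRing V] {G : Over (Spec (CommRingCat.of V))} [GrpObj G]
  [IsAffineHom G.hom] [Smooth G.hom] {r : ℕ} (i : Red.DS (Spec (CommRingCat.of V)) (Fin r → ℤ) ⟶ G) [IsMonHom i]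

/-- the residue field point -/
abbrev closedMap (V : Type u) [CommRing V] [IsLocalRing V] :
    Spec (CommRingCat.of (IsLocalRing.ResidueField V)) ⟶ Spec (CommRingCat.of V) :=
  Spec.map (CommRingCat.ofHom (IsLocalRing.residue V))

/-- actions on the closed fibre lift -/
theorem exists_lift_acts {n₀ : 𝟙_ (Over (Spec (CommRingCat.of (IsLocalRing.ResidueField V)))) ⟶
      Red.bc (closedMap V) G} {θ : (Fin r → ℤ) →+ (Fin r → ℤ)}
    (h : ActsDS (bcHom (closedMap V) i) n₀ θ) : ∃ n, ActsDS i n θ := by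
  haveI : IsSeparated G.hom := inferInstance
  have hH := Groth.L25.Locus.locally_of_multTypeFT
    (Groth.L25.Locus.isMultTypeFT_of_isTorus (Groth.L01.Unip.isTorus_DS (Spec (CommRingCat.of V)) r))
  obtain ⟨W, w, hwc, hWs, hW⟩ := Groth.L25.Locus.exists_smooth_transporter hH i (Red.DSmap _ θ ≫ i)
  let κ := closedMap V
  have hmap : AGF.conjBy n₀ ((Over.pullback κ).map i) = (Over.pullback κ).map (Red.DSmap _ θ ≫ i) := by
    have h' : AGF.conjBy n₀ (bcHom κ i) = Red.DSmap _ θ ≫ bcHom κ i := h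
    have := congrArg ((bcDS κ).hom ≫ ·) h'
    simpa only [comp_conj, ← bcHom_comp, Groth.L25.SplitSub.bcDS_hom_bcHom] using this
  have hT : Groth.L25.Locus.Transports i (Red.DSmap _ θ ≫ i) _ (toBase κ n₀) := by
    intro X' t a
    let Y : Over (Spec (CommRingCat.of (IsLocalRing.ResidueField V))) :=
      Over.mk (t.left ≫ (𝟙_ (Over (Spec (CommRingCat.of (IsLocalRing.ResidueField V))))).hom)
    let e : Over.mk (Y.hom ≫ κ) ≅ X' := Over.isoMk (Iso.refl _) (by
      show 𝟙 _ ≫ X'.hom = (t.left ≫ _) ≫ κ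
      rw [Category.id_comp, Category.assoc]
      exact (Over.w t).symm)
    have h1 := congrArg (fun m => toBase κ (ofBase κ (e.hom ≫ a) ≫ m)) hmap
    simp only [comp_conj, ofBase_comp] at h1
    rw [toBase_ofBase, show AGF.conjBy n₀ (ofBase κ ((e.hom ≫ a) ≫ i)) =
      (toUnit Y ≫ n₀) * ofBase κ ((e.hom ≫ a) ≫ i) * (toUnit Y ≫ n₀)⁻¹ from rfl] at h1
    have hinv : ∀ g : Y ⟶ Red.bc κ G, toBase κ g⁻¹ = (toBase κ g)⁻¹ := fun g =>
      map_inv (MonoidHom.mk' (fun g => toBase κ g) (toBase_mul κ)) g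
    have ht : (Over.map κ).map (toUnit Y) = e.hom ≫ t := by
      refine Over.OverMorphism.ext ?_
      show t.left ≫ 𝟙 _ = 𝟙 _ ≫ t.left
      rw [Category.comp_id, Category.id_comp]
    rw [toBase_mul, toBase_mul, hinv, toBase_ofBase, toBase_comp, ht] at h1
    rw [← cancel_epi e.hom]
    simp only [MonObj.comp_mul, GrpObj.comp_inv, ← Category.assoc]
    simpa only [← Category.assoc] using h1
  obtain ⟨w₀, hw₀⟩ := (hW _ _).2 hT
  obtain ⟨σ, hσ, -⟩ := Groth.L05.SecLift.exists_section W.hom w₀.left (by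
    rw [Over.w w₀]; exact Category.id_comp _)
  let n : 𝟙_ (Over (Spec (CommRingCat.of V))) ⟶ G := Over.homMk σ hσ ≫ w
  refine ⟨n, ?_⟩
  have h2 := (hW _ n).1 ⟨Over.homMk σ hσ, rfl⟩ (Red.DS _ (Fin r → ℤ)) (toUnit _) (𝟙 _)
  simpa only [ActsDS, AGF.conjBy, Category.id_comp] using h2

variable {K : Type u} [Field K] [IsAlgClosed K] [IsAlgClosed (IsLocalRing.ResidueField V)]
  (ξ : Spec (CommRingCat.of K) ⟶ Spec (CommRingCat.of V))
  (hgK : Red.IsReductiveOver K (Red.bc ξ G))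
  (hgk : Red.IsReductiveOver (IsLocalRing.ResidueField V) (Red.bc (closedMap V) G))
  (hTK : AGF.IsMaxTorus (bcHom ξ i)) (hTk : AGF.IsMaxTorus (bcHom (closedMap V) i))

include hgK hgk hTK hTk

/-- **generic normalizing points are integral up to the torus** -/
theorem exists_weyl_lift {nK : 𝟙_ (Over (Spec (CommRingCat.of K))) ⟶ Red.bc ξ G}
    {θ : (Fin r → ℤ) →+ (Fin r → ℤ)} (h : ActsDS (bcHom ξ i) nK θ) :
    ∃ (n : 𝟙_ (Over (Spec (CommRingCat.of V))) ⟶ G) (t : 𝟙_ (Over (Spec (CommRingCat.of K))) ⟶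
      Red.DS (Spec (CommRingCat.of K)) (Fin r → ℤ)), nK = bcPt ξ n * (t ≫ bcHom ξ i) := by
  haveI := hTK.1; haveI := hTK.2.1; haveI := hTk.1; haveI := hTk.2.1
  obtain ⟨hfin, hinvK, -, -, -, -⟩ := exists_walls (bcHom ξ i) hgK hTK
  obtain ⟨-, -, R, hR0, hregk, hrefl⟩ := exists_walls (bcHom (closedMap V) i) hgk hTk
  have hregK : ∀ f, Reg (bcHom ξ i) f ↔ ∀ a ∈ R, f a ≠ 0 := fun f =>
    (reg_transfer i ξ (closedMap V) hgK hgk hTK hTk f).trans (hregk f)
  let W : Set ((Fin r → ℤ) →+ (Fin r → ℤ)) := {θ | ∃ n, ActsDS (bcHom ξ i) n θ}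
  let W₀ : Set ((Fin r → ℤ) →+ (Fin r → ℤ)) := {θ | ∃ n, ActsDS (bcHom (closedMap V) i) n θ}
  have hsub : W₀ ⊆ W := by
    rintro φ ⟨n₀, hn₀⟩
    obtain ⟨n, hn⟩ := exists_lift_acts i hn₀
    exact ⟨_, hn.bc ξ⟩
  have hcomp : ∀ {L : Type u} [Field L] {X : Over (Spec (CommRingCat.of L))} [GrpObj X]
      (j : Red.DS (Spec (CommRingCat.of L)) (Fin r → ℤ) ⟶ X),
      ∀ φ ∈ {θ | ∃ n, ActsDS j n θ}, ∀ φ' ∈ {θ | ∃ n, ActsDS j n θ}, φ.comp φ' ∈ {θ | ∃ n, ActsDS j n θ} := by
    rintro L _ X _ j φ ⟨m, hm⟩ φ' ⟨m', hm'⟩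
    exact ⟨_, hm'.mul hm⟩
  obtain ⟨w, hw, f, hf, hfix⟩ := exists_fixed_regular W W₀ hfin ⟨1, actsDS_one⟩ hsub (hcomp _) (hcomp _)
    (fun φ ⟨m, hm⟩ => (hinvK m φ hm).1) R hR0 (fun φ ⟨m, hm⟩ f hf => by
      obtain ⟨-, φ', hm', h1⟩ := hinvK m φ hm
      obtain ⟨hinj', φ'', -, h2⟩ := hinvK _ φ' hm'
      have h3 : φ.comp φ' = AddMonoidHom.id _ := AddMonoidHom.ext fun x => hinj' (by
        simpa using DFunLike.congr_fun h1 (φ' x))
      exact (hregK _).1 (((hregK f).2 hf).comp_acts hm h1 h3))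
    (fun a ha => by
      obtain ⟨a₀, ha₀, φ, hφ, h1, h2⟩ := hrefl a ha
      exact ⟨a₀, ha₀, φ, hφ, h1, h2⟩)
    (show θ ∈ W from ⟨nK, h⟩)
  obtain ⟨n₀, hn₀⟩ := hw
  obtain ⟨n, hn⟩ := exists_lift_acts i hn₀
  have hm : ActsDS (bcHom ξ i) (bcPt ξ n * nK) (θ.comp w) := (hn.bc ξ).mul h
  have hfixm : AGF.conjBy (bcPt ξ n * nK) (Red.DSmap _ (one f) ≫ bcHom ξ i) =
      Red.DSmap _ (one f) ≫ bcHom ξ i := by
    rw [← comp_conj, hm, ← Category.assoc, DSmap_comp, one_comp_map, hfix]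
  obtain ⟨t, ht⟩ := ((Groth.L08.TorusWeights.selfCentral_of_reductiveOver hgK hTK).2.2 _ _).2
    ((hregK f).2 hf _ _ (commP_of_conj_eq hfixm))
  exact ⟨n⁻¹, t, by rw [bcPt_inv, ht, inv_mul_cancel_left]⟩

end Hens

end Groth.L08.MonoRed
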